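import Cfsg.Agent.Lib.Recog.Phan.Small.Ladder
import Cfsg.Agent.Lib.Recog.Phan.Normalise

/-!
# From normalised four-coordinate pieces to a homomorphic image of the whole group
-/

set_option autoImplicit false

namespace CfsgLib.Recog.Phan.Small

open CfsgLib.Pres.SUn (blk)

variable {G : Type*} [Group G] {F : Type*} [Field F] [Fintype F] {q n : ℕ}

/-- A normalised piece: the coordinate blocks go onto the given subgroups. -/
structure Piece (U : Fin n → Subgroup G) (V : Fin n → Fin n → Subgroup G) (i : ℕ) (h : i + 3 ≤ n)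
    (θ : Cfsg.SU 4 F q →* G) : Prop where
  v0 : (θ.comp (emb (k := 3) 0 (by omega))).range = V ⟨i, by omega⟩ ⟨i + 1, by omega⟩
  v1 : (θ.comp (emb (k := 3) 1 (by omega))).range = V ⟨i + 1, by omega⟩ ⟨i + 2, by omega⟩
  u0 : (θ.comp (emb (k := 2) 0 (by omega))).range = U ⟨i, by omega⟩
  u1 : (θ.comp (emb (k := 2) 1 (by omega))).range = U ⟨i + 1, by omega⟩
  u2 : (θ.comp (emb (k := 2) 2 (by omega))).range = U ⟨i + 2, by omega⟩

variable (hF : Fintype.card F = q ^ 2) (hn : 4 ≤ n) (U : Fin n → Subgroup G) (V : Fin n → Fin n → Subgroup G)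

include hF hn in
/-- The assembly; `X` is the extra property maintained by the gluing. -/
theorem exists_surjective (X : (Cfsg.SU 4 F q →* G) → Prop)
    (hex : ∀ (i : ℕ) (h : i + 3 ≤ n), ∃ θ : Cfsg.SU 4 F q →* G, Piece U V i h θ ∧ X θ)
    (hglue : ∀ (i : ℕ) (h : i + 4 ≤ n) (θ θ2 : Cfsg.SU 4 F q →* G), Piece U V i (by omega) θ → X θ →
      Piece U V (i + 1) (by omega) θ2 → X θ2 → ∃ θ2' : Cfsg.SU 4 F q →* G, Piece U V (i + 1) (by omega) θ2' ∧
        X θ2' ∧ ∀ x : Cfsg.SU 3 F q, θ2' (emb 0 (by omega) x) = θ (emb 1 (by omega) x))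
    (c5 : ∀ i j k : Fin n, (j : ℕ) + 1 = k → ((i : ℕ) + 2 ≤ j ∨ (k : ℕ) + 2 ≤ i) →
      ∀ x ∈ U i, ∀ y ∈ V j k, x * y = y * x)
    (c6 : ∀ i j k l : Fin n, (i : ℕ) + 1 = j → (k : ℕ) + 1 = l → (j : ℕ) + 2 ≤ k →
      ∀ x ∈ V i j, ∀ y ∈ V k l, x * y = y * x)
    (hgen : (⨆ i, U i) ⊔ (⨆ (i : Fin n) (j : Fin n) (_ : (i : ℕ) + 1 = j), V i j) = ⊤) :
    ∃ f : Cfsg.SU (n + 1) F q →* G, Function.Surjective f := by
  classical
  let P : ℕ → (Cfsg.SU 4 F q →* G) → Prop := fun i θ => ∀ h : i + 3 ≤ n, Piece U V i h θ ∧ X θ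
  have hP : ∀ i, ∃ θ, P i θ := fun i => by
    by_cases h : i + 3 ≤ n
    · obtain ⟨θ, hθ⟩ := hex i h
      exact ⟨θ, fun _ => hθ⟩
    · exact ⟨1, fun h' => absurd h' h⟩
  have main : ∀ k, ∃ θ : ℕ → (Cfsg.SU 4 F q →* G), (∀ i, P i (θ i)) ∧ ∀ i, i < k → i + 4 ≤ n →
      ∀ x : Cfsg.SU 3 F q, θ (i + 1) (emb 0 (by omega) x) = θ i (emb 1 (by omega) x) := by
    intro k
    induction k with
    | zero => exact ⟨fun i => (hP i).choose, fun i => (hP i).choose_spec, fun i hi => absurd hi (by omega)⟩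
    | succ k ih =>
      obtain ⟨θ, hθ, hgl⟩ := ih
      by_cases hk : k + 4 ≤ n
      · obtain ⟨θ', h1, h2, hx⟩ := hglue k hk (θ k) (θ (k + 1)) (hθ k (by omega)).1 (hθ k (by omega)).2
          (hθ (k + 1) (by omega)).1 (hθ (k + 1) (by omega)).2
        refine ⟨Function.update θ (k + 1) θ', fun i => ?_, fun i hi hin x => ?_⟩
        · rcases eq_or_ne i (k + 1) with rfl | hne
          · rw [Function.update_self]; exact fun _ => ⟨h1, h2⟩
          · rw [Function.update_of_ne hne]; exact hθ i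
        · rw [Function.update_of_ne (by omega : i ≠ k + 1)]
          rcases eq_or_ne i k with rfl | hne
          · rw [Function.update_self]; exact hx x
          · rw [Function.update_of_ne (by omega : i + 1 ≠ k + 1)]; exact hgl i (by omega) hin x
      · refine ⟨θ, hθ, fun i hi hin x => hgl i ?_ hin x⟩
        omega
  obtain ⟨θ, hθ, hgl⟩ := main n
  let ph : ∀ i : ℕ, i + 3 ≤ n + 1 → Cfsg.SU 3 F q →* G := fun i _ =>
    if i + 3 ≤ n then (θ i).comp (emb 0 (by omega)) else (θ (i - 1)).comp (emb 1 (by omega))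
  have ecomp : ∀ (t : Cfsg.SU 4 F q →* G) (j i : ℕ) (hi : i + 2 ≤ 3) (hj : j + 3 ≤ 4),
      (t.comp (emb (k := 3) j hj)).comp (emb (k := 2) i hi) = t.comp (emb (j + i) (by omega)) :=
    fun t j i hi hj => MonoidHom.ext fun x => congrArg t (emb_emb i j hi hj x)
  have rV : ∀ (i : ℕ) (h : i + 3 ≤ n + 1), (ph i h).range = V ⟨i, by omega⟩ ⟨i + 1, by omega⟩ := fun i h => by
    show (if i + 3 ≤ n then (θ i).comp (emb 0 (by omega)) else (θ (i - 1)).comp (emb 1 (by omega))).range = _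
    split_ifs with hi
    · exact (hθ i hi).1.v0
    · rw [(hθ (i - 1) (by omega)).1.v1]
      congr 2 <;> omega
  have rL : ∀ (i : ℕ) (h : i + 3 ≤ n + 1), ((ph i h).comp left2).range = U ⟨i, by omega⟩ := fun i h => by
    show ((if i + 3 ≤ n then (θ i).comp (emb 0 (by omega)) else (θ (i - 1)).comp (emb 1 (by omega))).comp _).range = _
    split_ifs with hi
    · rw [left2, ecomp]; exact (hθ i hi).1.u0
    · rw [left2, ecomp]
      refine (hθ (i - 1) (by omega)).1.u1.trans ?_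
      congr 2; omega
  have rR : ∀ (i : ℕ) (h : i + 3 ≤ n + 1), ((ph i h).comp right2).range = U ⟨i + 1, by omega⟩ := fun i h => by
    show ((if i + 3 ≤ n then (θ i).comp (emb 0 (by omega)) else (θ (i - 1)).comp (emb 1 (by omega))).comp _).range = _
    split_ifs with hi
    · rw [right2, ecomp]; exact (hθ i hi).1.u1
    · rw [right2, ecomp]
      refine (hθ (i - 1) (by omega)).1.u2.trans ?_
      congr 2; omega
  let D : Seq (n + 1) G F q := {
    phi := ph
    th := fun i _ => θ i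
    th_left := fun i h x => by
      show _ = (if i + 3 ≤ n then (θ i).comp (emb 0 (by omega)) else (θ (i - 1)).comp (emb 1 (by omega))) x
      rw [if_pos (by omega)]; rfl
    th_right := fun i h x => by
      show _ = (if i + 1 + 3 ≤ n then (θ (i + 1)).comp (emb 0 (by omega))
        else (θ (i + 1 - 1)).comp (emb 1 (by omega))) x
      split_ifs with hi
      · exact (hgl i (by omega) (by omega) x).symm
      · rfl
    far33 := fun i j hi hj hij x y => c6 ⟨i, by omega⟩ ⟨i + 1, by omega⟩ ⟨j, by omega⟩ ⟨j + 1, by omega⟩ rfl rfl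
      (by show i + 1 + 2 ≤ j; omega) _ ((rV i hi).le ⟨x, rfl⟩) _ ((rV j hj).le ⟨y, rfl⟩)
    far23 := fun i j hi hj hij x y => c5 ⟨i, by omega⟩ ⟨j, by omega⟩ ⟨j + 1, by omega⟩ rfl (.inl hij)
      _ ((rL i hi).le ⟨x, rfl⟩) _ ((rV j hj).le ⟨y, rfl⟩)
    far32 := fun i j hi hj hij x y => (c5 ⟨j + 1, by omega⟩ ⟨i, by omega⟩ ⟨i + 1, by omega⟩ rfl
      (.inr (by show i + 1 + 2 ≤ j + 1; omega)) _ ((rR j hj).le ⟨y, rfl⟩) _ ((rV i hi).le ⟨x, rfl⟩)).symm }
  obtain ⟨f, -, hf⟩ := D.exists_hom hF (by omega)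
  refine ⟨f, MonoidHom.range_eq_top.1 (top_le_iff.1 (hgen ▸ ?_))⟩
  have hle : ∀ (i : ℕ) (h : i + 3 ≤ n + 1), (ph i h).range ≤ f.range := fun i h => by
    rintro _ ⟨x, rfl⟩
    exact ⟨_, hf i h x⟩
  refine sup_le (iSup_le fun i => ?_) (iSup_le fun i => iSup_le fun j => iSup_le fun hij => ?_)
  · rintro z hz
    by_cases hi : (i : ℕ) + 2 ≤ n
    · rw [← rL i (by omega)] at hz
      obtain ⟨x, rfl⟩ := hz
      exact hle i (by omega) ⟨_, rfl⟩
    · have e : i = ⟨(i : ℕ) - 1 + 1, by omega⟩ := Fin.ext (by show (i : ℕ) = (i : ℕ) - 1 + 1; omega)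
      rw [e, ← rR ((i : ℕ) - 1) (by omega)] at hz
      obtain ⟨x, rfl⟩ := hz
      exact hle ((i : ℕ) - 1) (by omega) ⟨_, rfl⟩
  · rw [show j = ⟨(i : ℕ) + 1, by omega⟩ from Fin.ext hij.symm, ← rV i (by have := j.2; omega)]
    exact hle (i : ℕ) (by have := j.2; omega)

end CfsgLib.Recog.Phan.Small
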