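import Cfsg.Agent.Lib.Recog.Phan.Small.Parts

/-!
# The lifts form the graph of a homomorphism
-/

set_option autoImplicit false

namespace CfsgLib.Recog.Phan.Small

open CfsgLib.Pres.SUn

variable {G : Type*} [Group G] {F : Type*} [Field F] [Fintype F] {q m : ℕ}
  {a z : Fin m} {K L : Subgroup (G × Cfsg.SU m F q)} (H : Two a z K L)

namespace Two

include H

/-- All hyperplane lifts at once. -/
theorem exists_family : ∃ P : Fin m → Subgroup (G × Cfsg.SU m F q), (∀ c, Part c (P c)) ∧ P z = K ∧ P a = L ∧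
    (∀ c g, g ∈ K → g.2 ∈ SOn (Finset.univ.erase c) → g ∈ P c) ∧
    (∀ c g, g ∈ L → g.2 ∈ SOn (Finset.univ.erase c) → g ∈ P c) ∧
    ∀ c, c ≠ a → c ≠ z → ∃ k ∈ K, k.2 ∈ SOn {a, c} ∧
      (∀ i : Fin m, ∃ l : F, l ≠ 0 ∧ act k.2 (Pi.single i 1) = l • Pi.single (Equiv.swap a c i) 1) ∧
      ∀ g, g ∈ P c ↔ ∃ l ∈ L, g = k * l * k⁻¹ := by
  classical
  have h := fun c (h : c ≠ a ∧ c ≠ z) => H.exists_part h.1 h.2
  choose D hD hDK hDL k hk hk2 hks hmem using h
  refine ⟨fun c => if hca : c = a then L else if hcz : c = z then K else D c ⟨hca, hcz⟩, fun c => ?_, ?_, ?_, ?_, ?_, ?_⟩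
  · dsimp only
    split_ifs with h1 h2
    · exact h1 ▸ H.partL
    · exact h2 ▸ H.partK
    · exact hD c _
  · simp [H.ne.symm]
  · simp
  · intro c g hg hgc
    dsimp only
    split_ifs with h1 h2
    · subst h1
      obtain ⟨g', hg', e⟩ := H.partL.surj _ hgc
      rwa [H.agree g hg g' hg' e.symm]
    · exact hg
    · exact hDK c _ g hg hgc
  · intro c g hg hgc
    dsimp only
    split_ifs with h1 h2
    · exact hg
    · subst h2
      obtain ⟨g', hg', e⟩ := H.partK.surj _ hgc
      rwa [← H.agree g' hg' g hg e]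
    · exact hDL c _ g hg hgc
  · intro c h1 h2
    exact ⟨k c ⟨h1, h2⟩, hk c _, hk2 c _, hks c _, fun g => by simpa [h1, h2] using hmem c ⟨h1, h2⟩ g⟩

/-- The completion. -/
theorem exists_hom : ∃ f : Cfsg.SU m F q →* G, (∀ g ∈ K, f g.2 = g.1) ∧ ∀ g ∈ L, f g.2 = g.1 := by
  classical
  have hF := H.card
  obtain ⟨P, hP, hPz, hPa, hK, hL, hmk⟩ := H.exists_family
  -- the lifts agree
  have agree : ∀ c d, ∀ g ∈ P c, ∀ h ∈ P d, g.2 = h.2 → g = h := by
    intro c d g hg h hh e
    suffices hmove : g ∈ P d from (hP d).eq_of hmove hh e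
    have hgd : g.2 ∈ SOn (Finset.univ.erase d) := e ▸ (hP d).mem h hh
    by_cases hcz : c = z
    · exact hK d g (hPz ▸ hcz ▸ hg) hgd
    by_cases hca : c = a
    · exact hL d g (hPa ▸ hca ▸ hg) hgd
    obtain ⟨k, hk, hk2, hks, hmem⟩ := hmk c hca hcz
    by_cases hdc : d = c
    · exact hdc ▸ hg
    by_cases hda : d = a
    · subst hda
      obtain ⟨g', hg', e'⟩ := H.partL.surj _ hgd
      rw [(hP c).eq_of hg (hL c g' hg' (e' ▸ (hP c).mem g hg)) e'.symm, hPa]
      exact hg'
    obtain ⟨l, hl, rfl⟩ := (hmem g).1 hg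
    have hkd : k ∈ P d := hK d k hk (SOn_mono (by
      intro i hi
      simp only [Finset.mem_insert, Finset.mem_singleton] at hi
      rcases hi with rfl | rfl
      · exact Finset.mem_erase.2 ⟨Ne.symm hda, Finset.mem_univ _⟩
      · exact Finset.mem_erase.2 ⟨Ne.symm hdc, Finset.mem_univ _⟩) hk2)
    refine mul_mem (mul_mem hkd (hL d l hl ?_)) (inv_mem hkd)
    have h1 : l.2 = k.2⁻¹ * (k * l * k⁻¹).2 * k.2 := by simp [mul_assoc]
    rw [h1]
    exact mul_mem (mul_mem (inv_mem ((hP d).mem k hkd)) hgd) ((hP d).mem k hkd)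
  -- lifts with small disjoint supports commute
  have commall : ∀ R R' : Finset (Fin m), R.card ≤ 3 → R'.card ≤ 3 → Disjoint R R' → ∀ c c', c ∉ R → c' ∉ R' →
      ∀ g ∈ P c, ∀ h ∈ P c', g.2 ∈ SOn R → h.2 ∈ SOn R' → Commute g h := by
    have move : ∀ (R : Finset (Fin m)) (c e : Fin m), e ∉ R → ∀ g ∈ P c, g.2 ∈ SOn R → g ∈ P e := by
      intro R c e he g hg hgR
      obtain ⟨g', hg', e'⟩ := (hP e).surj_of he hgR
      rwa [agree c e g hg g' hg' e'.symm]
    have key : ∀ R R' : Finset (Fin m), R.card ≤ 3 → R'.card ≤ 3 → Disjoint R R' → R ∪ R' = Finset.univ → a ∈ R →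
        ∀ c c', c ∉ R → c' ∉ R' → ∀ g ∈ P c, ∀ h ∈ P c', g.2 ∈ SOn R → h.2 ∈ SOn R' → Commute g h := by
      intro R R' hR hR' hd hu haR c c' hc hc' g hg h hh hgR hhR
      have haR' : a ∉ R' := Finset.disjoint_left.1 hd haR
      by_cases hzR : z ∈ R
      · -- move a coordinate of the second set to the first distinguished one
        obtain ⟨b, hb⟩ : R'.Nonempty := by
          rcases R'.eq_empty_or_nonempty with h0 | h0
          · exfalso
            rw [h0, Finset.union_empty] at hu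
            have h5 := H.five
            rw [hu, Finset.card_univ, Fintype.card_fin] at hR
            omega
          · exact h0
        have hbR : b ∉ R := Finset.disjoint_right.1 hd hb
        have hba : b ≠ a := fun e => haR' (e ▸ hb)
        have hbz : b ≠ z := fun e => hbR (e ▸ hzR)
        obtain ⟨k, hk, hk2, hks, hmem⟩ := hmk b hba hbz
        obtain ⟨l, hl, rfl⟩ := (hmem g).1 (move R c b hbR g hg hgR)
        have hhK : h ∈ K := hPz ▸ move R' c' z (Finset.disjoint_left.1 hd hzR) h hh hhR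
        have hs : ∀ (S : Finset (Fin m)) (i : Fin m), i ∉ S.image (Equiv.swap a b) → Equiv.swap a b i ∉ S :=
          fun S i hi hiS => hi (Finset.mem_image.2 ⟨_, hiS, Equiv.swap_apply_self _ _ _⟩)
        have hl2 : l.2 ∈ SOn (R.image (Equiv.swap a b)) := by
          have := conj_SOn' hks (T' := R.image (Equiv.swap a b)) (hs R) hgR
          simpa [mul_assoc] using this
        have hh2 : (k⁻¹ * h * k).2 ∈ SOn (R'.image (Equiv.swap a b)) := by
          simpa using conj_SOn' hks (T' := R'.image (Equiv.swap a b)) (hs R') hhR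
        have hz' : z ∈ R.image (Equiv.swap a b) :=
          Finset.mem_image.2 ⟨z, hzR, Equiv.swap_apply_of_ne_of_ne H.ne.symm hbz.symm⟩
        have ha' : a ∈ R'.image (Equiv.swap a b) := Finset.mem_image.2 ⟨b, hb, Equiv.swap_apply_right a b⟩
        have hcm := (H.comm (R'.image (Equiv.swap a b)) (R.image (Equiv.swap a b))
          (Finset.card_image_le.trans hR') (Finset.card_image_le.trans hR)
          ((Finset.disjoint_image (Equiv.injective _)).2 hd.symm) ha' hz' (k⁻¹ * h * k)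
          (mul_mem (mul_mem (inv_mem hk) hhK) hk) l hl hh2 hl2).symm
        simpa [mul_assoc] using Commute.map hcm (MulAut.conj k).toMonoidHom
      · have hzR' : z ∈ R' := by
          have := Finset.eq_univ_iff_forall.1 hu z
          simpa [hzR] using this
        exact H.comm R R' hR hR' hd haR hzR' g (hPz ▸ move R c z hzR g hg hgR) h
          (hPa ▸ move R' c' a haR' h hh hhR) hgR hhR
    intro R R' hR hR' hd c c' hc hc' g hg h hh hgR hhR
    by_cases hu : R ∪ R' = Finset.univ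
    · rcases Finset.mem_union.1 (Finset.eq_univ_iff_forall.1 hu a) with haR | haR
      · exact key R R' hR hR' hd hu haR c c' hc hc' g hg h hh hgR hhR
      · exact (key R' R hR' hR hd.symm (by rwa [Finset.union_comm]) haR c' c hc' hc h hh g hg hhR hgR).symm
    · obtain ⟨e, he⟩ : ∃ e, e ∉ R ∪ R' := by
        by_contra hno
        push Not at hno
        exact hu (Finset.eq_univ_iff_forall.2 hno)
      simp only [Finset.mem_union, not_or] at he
      exact (hP e).commute hF (move R c e he.1 g hg hgR) (move R' c' e he.2 h hh hhR) hd hgR hhR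
  -- the blocks
  let B : Finset (Fin m) → Subgroup (G × Cfsg.SU m F q) := fun T =>
    if hT : ∃ c, c ∉ T then P hT.choose ⊓ (SOn T).comap (MonoidHom.snd G (Cfsg.SU m F q)) else ⊥
  have hB4 : ∀ T : Finset (Fin m), T.card = 4 → ∃ c, c ∉ T := fun T hT => by
    by_contra hno
    push Not at hno
    have h5 := H.five
    rw [Finset.eq_univ_iff_forall.2 hno, Finset.card_univ, Fintype.card_fin] at hT
    omega
  have hBmem : ∀ T : Finset (Fin m), T.card = 4 → ∀ g, g ∈ B T ↔
      ∃ c, c ∉ T ∧ g ∈ P c ∧ g.2 ∈ SOn T := by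
    intro T hT g
    have h := hB4 T hT
    simp only [B, dif_pos h, Subgroup.mem_inf, Subgroup.mem_comap, MonoidHom.coe_snd]
    refine ⟨fun hg => ⟨_, h.choose_spec, hg.1, hg.2⟩, fun ⟨c, hc, hg, hg2⟩ => ⟨?_, hg2⟩⟩
    obtain ⟨g', hg', e'⟩ := (hP h.choose).surj_of h.choose_spec hg2
    rwa [agree c _ g hg g' hg' e'.symm]
  have hBl : Blocks (MonoidHom.snd G (Cfsg.SU m F q)) B := by
    refine ⟨fun T hT g hg => ?_, fun T hT x hx => ?_, fun T T' hT hT' g hg h hh e => ?_, ?_⟩
    · obtain ⟨c, -, -, h⟩ := (hBmem T hT g).1 hg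
      exact h
    · obtain ⟨c, hc⟩ := hB4 T hT
      obtain ⟨g, hg, e⟩ := (hP c).surj_of hc hx
      exact ⟨g, (hBmem T hT g).2 ⟨c, hc, hg, e ▸ hx⟩, e⟩
    · obtain ⟨c, -, hg', -⟩ := (hBmem T hT g).1 hg
      obtain ⟨d, -, hh', -⟩ := (hBmem T' hT' h).1 hh
      exact agree c d g hg' h hh' e
    · intro R R' hR hR' hd T T' hT hT' hRT hRT' g hg h hh hgR hhR
      obtain ⟨c, hc, hg', -⟩ := (hBmem T hT g).1 hg
      obtain ⟨d, hd', hh', -⟩ := (hBmem T' hT' h).1 hh
      exact commall R R' hR hR' hd c d (fun hh => hc (hRT hh)) (fun hh => hd' (hRT' hh)) g hg' h hh' hgR hhR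
  have hinj : ∀ S : Finset (Fin m), 4 ≤ S.card → ∀ g ∈ KB B S, g.2 = 1 → g = 1 := by
    intro S
    induction S using Finset.strongInduction with
    | H S ih =>
      intro hS
      rcases Nat.eq_or_lt_of_le hS with h4 | h4
      · intro g hg hg1
        have hle : KB B S ≤ B S := by
          rw [KB, Subgroup.closure_le]
          rintro x ⟨T, hTS, hT4, hx⟩
          rwa [Finset.eq_of_subset_of_card_le hTS (by omega)] at hx
        exact hBl.agree S S h4.symm h4.symm g (hle hg) 1 (one_mem _) hg1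
      · obtain ⟨x, hx⟩ : S.Nonempty := Finset.card_pos.1 (by omega)
        have hc : 4 ≤ (S.erase x).card := by rw [Finset.card_erase_of_mem hx]; omega
        exact hBl.step hF hx hc (ih _ (Finset.erase_ssubset hx) hc)
  have h5 := H.five
  have huniv : 4 ≤ (Finset.univ : Finset (Fin m)).card := by rw [Finset.card_univ, Fintype.card_fin]; omega
  have hex : ∀ x : Cfsg.SU m F q, ∃ g ∈ KB B Finset.univ, g.2 = x := fun x =>
    hBl.exists_lift hF huniv (x := x) (by rw [SOn_univ]; exact Subgroup.mem_top x)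
  choose φ hφ hφ2 using hex
  have huniq : ∀ g ∈ KB B Finset.univ, φ g.2 = g := fun g hg => by
    have := hinj _ huniv _ (mul_mem (inv_mem (hφ g.2)) hg) (by simp [hφ2])
    exact inv_mul_eq_one.1 this
  let f : Cfsg.SU m F q →* G := MonoidHom.mk' (fun x => (φ x).1) fun x y => by
    have := huniq _ (mul_mem (hφ x) (hφ y))
    rw [Prod.snd_mul, hφ2, hφ2] at this
    rw [this, Prod.fst_mul]
  have hin : ∀ c, ∀ g ∈ P c, f g.2 = g.1 := by
    intro c g hg
    suffices h : g ∈ KB B Finset.univ by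
      show (φ g.2).1 = g.1
      rw [huniq g h]
    have hcard : 3 ≤ ((Finset.univ : Finset (Fin m)).erase c).card := by
      rw [Finset.card_erase_of_mem (Finset.mem_univ c)]; omega
    suffices h : ∀ x ∈ Subgroup.closure {x : Cfsg.SU m F q | ∃ R : Finset (Fin m),
        R ⊆ Finset.univ.erase c ∧ R.card = 3 ∧ x ∈ SOn R}, ∃ p ∈ P c ⊓ KB B Finset.univ, p.2 = x by
      obtain ⟨p, hp, e⟩ := h _ (gen_three hF hcard ((hP c).mem g hg))
      rw [(hP c).eq_of hg hp.1 e.symm]
      exact hp.2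
    intro x hx
    induction hx using Subgroup.closure_induction with
    | mem y hy =>
      obtain ⟨R, hRs, hR3, hy⟩ := hy
      obtain ⟨T, hRT, hTs, hT4⟩ := Finset.exists_subsuperset_card_eq (n := 4) hRs (by omega) (by
        rw [Finset.card_erase_of_mem (Finset.mem_univ c), Finset.card_univ, Fintype.card_fin]; omega)
      have hcT : c ∉ T := fun h => Finset.notMem_erase c _ (hTs h)
      obtain ⟨p, hp, e⟩ := (hP c).surj_of hcT (SOn_mono hRT hy)
      exact ⟨p, ⟨hp, Subgroup.subset_closure ⟨T, Finset.subset_univ T, hT4,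
        (hBmem T hT4 p).2 ⟨c, hcT, hp, e ▸ SOn_mono hRT hy⟩⟩⟩, e⟩
    | one => exact ⟨1, one_mem _, rfl⟩
    | mul y y' _ _ ih ih' =>
      obtain ⟨p, hp, e⟩ := ih
      obtain ⟨p', hp', e'⟩ := ih'
      exact ⟨p * p', mul_mem hp hp', by rw [Prod.snd_mul, e, e']⟩
    | inv y _ ih =>
      obtain ⟨p, hp, e⟩ := ih
      exact ⟨p⁻¹, inv_mem hp, by rw [Prod.snd_inv, e]⟩
  exact ⟨f, fun g hg => hin z g (hPz.symm ▸ hg), fun g hg => hin a g (hPa.symm ▸ hg)⟩

end Two

end CfsgLib.Recog.Phan.Small
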