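import Cfsg.Agent.Lib.Recog.Phan.Small.Parts

/-!
# Moving small disjoint supports to standard position; generation by two hyperplanes
-/

set_option autoImplicit false

namespace CfsgLib.Recog.Phan.Small

open CfsgLib.Pres.SUn

variable {G : Type*} [Group G] {F : Type*} [Field F] [Fintype F] {q m : ℕ} (hF : Fintype.card F = q ^ 2)

include hF in
/-- Two coordinate hyperplanes generate. -/
theorem gen_two (h5 : 5 ≤ m) {a z : Fin m} (haz : a ≠ z) :
    (SOn (Finset.univ.erase z) : Subgroup (Cfsg.SU m F q)) ⊔ SOn (Finset.univ.erase a) = ⊤ := by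
  classical
  rw [eq_top_iff, ← SOn_univ]
  refine (split_last hF (T := Finset.univ) (by rw [Finset.card_univ, Fintype.card_fin]; omega)
    (Finset.mem_univ a)).trans (sup_le le_sup_right (iSup₂_le fun y hy => ?_))
  have hya := (Finset.mem_erase.1 hy).1
  by_cases hyz : y = z
  · subst hyz
    intro x hx
    obtain ⟨e, he⟩ : ((Finset.univ.erase a).erase y).Nonempty := Finset.card_pos.1 (by
      rw [Finset.card_erase_of_mem hy, Finset.card_erase_of_mem (Finset.mem_univ a), Finset.card_univ,
        Fintype.card_fin]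
      omega)
    simp only [Finset.mem_erase, Finset.mem_univ, and_true] at he
    obtain ⟨w, hw, hws⟩ := exists_swap hF (m := m) (Ne.symm he.2)
    have hw' : w ∈ (SOn (Finset.univ.erase y) : Subgroup (Cfsg.SU m F q)) := SOn_mono (fun i hi => by
      simp only [Finset.mem_insert, Finset.mem_singleton] at hi
      refine Finset.mem_erase.2 ⟨?_, Finset.mem_univ i⟩
      rcases hi with rfl | rfl
      exacts [haz, he.1]) hw
    have hx' : w⁻¹ * x * w ∈ (SOn (Finset.univ.erase a) : Subgroup (Cfsg.SU m F q)) := by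
      refine conj_SOn' hws (fun i hi => ?_) hx
      simp only [Finset.mem_erase, Finset.mem_univ, and_true, not_not] at hi
      subst hi
      simp [he.1, he.2]
    have h1 := mul_mem (mul_mem (Subgroup.mem_sup_left (T := SOn (Finset.univ.erase a)) hw')
      (Subgroup.mem_sup_right (S := SOn (Finset.univ.erase y)) hx'))
      (Subgroup.mem_sup_left (T := SOn (Finset.univ.erase a)) (inv_mem hw'))
    simpa [mul_assoc] using h1
  · refine le_trans (SOn_mono fun i hi => ?_) le_sup_left
    simp only [Finset.mem_insert, Finset.mem_singleton] at hi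
    refine Finset.mem_erase.2 ⟨?_, Finset.mem_univ i⟩
    rcases hi with rfl | rfl
    exacts [hyz, haz]

include hF in
/-- Commutation in standard position gives commutation in every position. -/
theorem comm_of_std {a z : Fin m} {K L : Subgroup (G × Cfsg.SU m F q)} (hK : Part z K) (hL : Part a L)
    (agree : ∀ g ∈ K, ∀ h ∈ L, g.2 = h.2 → g = h) {Rs Rs' : Finset (Fin m)} (hds : Disjoint Rs Rs')
    (ha : a ∈ Rs) (hz : z ∈ Rs')
    (std : ∀ g ∈ K, ∀ h ∈ L, g.2 ∈ SOn Rs → h.2 ∈ SOn Rs' → Commute g h) :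
    ∀ R R' : Finset (Fin m), R.card = Rs.card → R'.card = Rs'.card → Disjoint R R' → a ∈ R → z ∈ R' →
      ∀ g ∈ K, ∀ h ∈ L, g.2 ∈ SOn R → h.2 ∈ SOn R' → Commute g h := by
  classical
  suffices main : ∀ n : ℕ, ∀ R R' : Finset (Fin m), (R \ Rs).card * (m + 1) + (R' \ Rs').card = n →
      R.card = Rs.card → R'.card = Rs'.card → Disjoint R R' → a ∈ R → z ∈ R' →
      ∀ g ∈ K, ∀ h ∈ L, g.2 ∈ SOn R → h.2 ∈ SOn R' → Commute g h from fun R R' => main _ R R' rfl
  intro n
  induction n using Nat.strong_induction_on with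
  | _ n ih =>
    intro R R' hn hc hc' hd haR hzR g hg h hh hgR hhR
    -- conjugation by a transposition of middle coordinates
    have step : ∀ x y : Fin m, x ≠ y → x ≠ a → x ≠ z → y ≠ a → y ≠ z →
        (R.image (Equiv.swap x y) \ Rs).card * (m + 1) + (R'.image (Equiv.swap x y) \ Rs').card < n →
        Commute g h := by
      intro x y hxy hxa hxz hya hyz hlt
      obtain ⟨w, hw, hws⟩ := exists_swap hF (m := m) hxy
      obtain ⟨k, hk, hk2⟩ := hK.surj_of (T := {x, y}) (by simp [hxz.symm, hyz.symm]) hw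
      obtain ⟨k', hk', hk2'⟩ := hL.surj_of (T := {x, y}) (by simp [hxa.symm, hya.symm]) hw
      obtain rfl : k = k' := agree k hk k' hk' (hk2.trans hk2'.symm)
      subst hk2
      have hs : ∀ (S : Finset (Fin m)) (i : Fin m), i ∉ S.image (Equiv.swap x y) → (Equiv.swap x y).symm i ∉ S :=
        fun S i hi hiS => hi (Finset.mem_image.2 ⟨_, hiS, Equiv.apply_symm_apply _ _⟩)
      have hcm := ih _ hlt (R.image (Equiv.swap x y)) (R'.image (Equiv.swap x y)) rfl
        (by rw [Finset.card_image_of_injective _ (Equiv.injective _), hc])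
        (by rw [Finset.card_image_of_injective _ (Equiv.injective _), hc'])
        ((Finset.disjoint_image (Equiv.injective _)).2 hd)
        (Finset.mem_image.2 ⟨a, haR, Equiv.swap_apply_of_ne_of_ne hxa.symm hya.symm⟩)
        (Finset.mem_image.2 ⟨z, hzR, Equiv.swap_apply_of_ne_of_ne hxz.symm hyz.symm⟩)
        (k * g * k⁻¹) (mul_mem (mul_mem hk hg) (inv_mem hk)) (k * h * k⁻¹) (mul_mem (mul_mem hk' hh) (inv_mem hk'))
        (by simpa using conj_SOn hws (T' := R.image (Equiv.swap x y)) (hs R) hgR)
        (by simpa using conj_SOn hws (T' := R'.image (Equiv.swap x y)) (hs R') hhR)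
      simpa [mul_assoc] using Commute.map hcm (MulAut.conj k⁻¹).toMonoidHom
    -- images of sets under a transposition
    have cnt : ∀ (S U : Finset (Fin m)) (x y : Fin m), x ∈ S → x ∉ U → y ∈ U → y ∉ S →
        (S.image (Equiv.swap x y) \ U).card < (S \ U).card := by
      intro S U x y hxS hxU hyU hyS
      refine Finset.card_lt_card (Finset.ssubset_iff_of_subset (fun i hi => ?_) |>.2
        ⟨x, Finset.mem_sdiff.2 ⟨hxS, hxU⟩, fun hx => ?_⟩)
      · obtain ⟨hi1, hi2⟩ := Finset.mem_sdiff.1 hi
        obtain ⟨j, hj, rfl⟩ := Finset.mem_image.1 hi1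
        by_cases hjx : j = x
        · subst hjx; simp [hyU] at hi2
        · have hjy : j ≠ y := fun e => hyS (e ▸ hj)
          rw [Equiv.swap_apply_of_ne_of_ne hjx hjy] at hi2 ⊢
          exact Finset.mem_sdiff.2 ⟨hj, hi2⟩
      · obtain ⟨j, hj, hjx⟩ := Finset.mem_image.1 (Finset.mem_sdiff.1 hx).1
        rw [← (Equiv.swap x y).eq_symm_apply, Equiv.symm_swap, Equiv.swap_apply_left] at hjx
        exact hyS (hjx ▸ hj)
    have hbound : ∀ (S : Finset (Fin m)), S.card ≤ m := fun S =>
      (Finset.card_le_univ S).trans_eq (Fintype.card_fin m)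
    by_cases hR : R = Rs
    · subst hR
      by_cases hR' : R' = Rs'
      · subst hR'
        exact std g hg h hh hgR hhR
      obtain ⟨x, hx, hx'⟩ : ∃ x ∈ R', x ∉ Rs' := by
        by_contra hno; push Not at hno
        exact hR' (Finset.eq_of_subset_of_card_le hno hc'.ge)
      obtain ⟨y, hy, hy'⟩ : ∃ y ∈ Rs', y ∉ R' := by
        by_contra hno; push Not at hno
        exact hR' (Finset.eq_of_subset_of_card_le hno hc'.le).symm
      have hxR : x ∉ R := Finset.disjoint_right.1 hd hx
      have hyR : y ∉ R := Finset.disjoint_right.1 hds hy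
      refine step x y (fun e => hx' (e ▸ hy)) (fun e => hxR (e ▸ haR)) (fun e => hx' (e ▸ hz))
        (fun e => hyR (e ▸ haR)) (fun e => hy' (e ▸ hzR)) ?_
      have e1 : R.image (Equiv.swap x y) = R := by
        refine Finset.eq_of_subset_of_card_le (fun i hi => ?_) (by
          rw [Finset.card_image_of_injective _ (Equiv.injective _)])
        obtain ⟨j, hj, rfl⟩ := Finset.mem_image.1 hi
        have hjx : j ≠ x := fun e => hxR (e ▸ hj)
        have hjy : j ≠ y := fun e => hyR (e ▸ hj)
        rwa [Equiv.swap_apply_of_ne_of_ne hjx hjy]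
      rw [e1]
      have := cnt R' Rs' x y hx hx' hy hy'
      omega
    obtain ⟨x, hx, hx'⟩ : ∃ x ∈ R, x ∉ Rs := by
      by_contra hno; push Not at hno
      exact hR (Finset.eq_of_subset_of_card_le hno hc.ge)
    obtain ⟨y, hy, hy'⟩ : ∃ y ∈ Rs, y ∉ R := by
      by_contra hno; push Not at hno
      exact hR (Finset.eq_of_subset_of_card_le hno hc.le).symm
    refine step x y (fun e => hx' (e ▸ hy)) (fun e => hx' (e ▸ ha))
      (fun e => Finset.disjoint_left.1 hd hx (e ▸ hzR)) (fun e => hy' (e ▸ haR))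
      (fun e => Finset.disjoint_left.1 hds hy (e ▸ hz)) ?_
    have h1 := cnt R Rs x y hx hx' hy hy'
    have h2 := hbound (R'.image (Equiv.swap x y) \ Rs')
    have h3 : ((R.image (Equiv.swap x y) \ Rs).card + 1) * (m + 1) ≤ (R \ Rs).card * (m + 1) :=
      Nat.mul_le_mul_right _ h1
    rw [Nat.succ_mul] at h3
    omega

end CfsgLib.Recog.Phan.Small
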