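import Cfsg.Agent.Lib.Recog.Phan.Defs
import Cfsg.Agent.Lib.Recog.Phan.Small.Complete
import Cfsg.Agent.Lib.Recog.Phan.Small.Move
import Cfsg.Agent.Lib.Pres.SUPerm

/-!
# From compatible consecutive four-coordinate blocks to the whole special unitary group
-/

set_option autoImplicit false

namespace CfsgLib.Recog.Phan.Small

open CfsgLib.Pres.SUn

variable {G : Type*} [Group G] {F : Type*} [Field F] [Fintype F] {q N : ℕ}

/-- Compatible homomorphisms of the consecutive four-coordinate blocks with distant commutation. -/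
structure Seq (N : ℕ) (G : Type*) [Group G] (F : Type*) [Field F] (q : ℕ) where
  phi : ∀ i : ℕ, i + 3 ≤ N → Cfsg.SU 3 F q →* G
  th : ∀ i : ℕ, i + 4 ≤ N → Cfsg.SU 4 F q →* G
  th_left : ∀ (i : ℕ) (h : i + 4 ≤ N) (x : Cfsg.SU 3 F q), th i h (emb 0 (by omega) x) = phi i (by omega) x
  th_right : ∀ (i : ℕ) (h : i + 4 ≤ N) (x : Cfsg.SU 3 F q),
    th i h (emb 1 (by omega) x) = phi (i + 1) (by omega) x
  far33 : ∀ (i j : ℕ) (hi : i + 3 ≤ N) (hj : j + 3 ≤ N), i + 3 ≤ j →
    ∀ x y : Cfsg.SU 3 F q, Commute (phi i hi x) (phi j hj y)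
  far23 : ∀ (i j : ℕ) (hi : i + 3 ≤ N) (hj : j + 3 ≤ N), i + 2 ≤ j →
    ∀ (x : Cfsg.SU 2 F q) (y : Cfsg.SU 3 F q), Commute (phi i hi (left2 x)) (phi j hj y)
  far32 : ∀ (i j : ℕ) (hi : i + 3 ≤ N) (hj : j + 3 ≤ N), i + 2 ≤ j →
    ∀ (x : Cfsg.SU 3 F q) (y : Cfsg.SU 2 F q), Commute (phi i hi x) (phi j hj (right2 y))

theorem iv_trans {k l m : ℕ} (j i : ℕ) (h : j + k ≤ l) (h' : i + l ≤ m) :
    (iv j h).trans (iv i h') = iv (i + j) (by omega) := by
  refine DFunLike.ext _ _ fun a => Fin.ext ?_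
  simp [Nat.add_assoc]

theorem emb_emb {k l m : ℕ} (j i : ℕ) (h : j + k ≤ l) (h' : i + l ≤ m) (x : Cfsg.SU k F q) :
    emb i h' (emb j h x) = emb (i + j) (by omega) x := by
  rw [emb, emb, blk_blk, iv_trans j i h h']

theorem emb_congr {k m : ℕ} {i i' : ℕ} (e : i = i') (h : i + k ≤ m) (x : Cfsg.SU k F q) :
    emb i h x = emb i' (e ▸ h) x := by
  subst e; rfl

theorem emb_self {m : ℕ} (h : 0 + m ≤ m) (x : Cfsg.SU m F q) : emb 0 h x = x := by
  refine eq_of_act fun v => funext fun i => ?_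
  have hid : ∀ b : Fin m, iv 0 h b = b := fun b => Fin.ext (by simp)
  calc act (emb 0 h x) v i = act (emb 0 h x) v (iv 0 h i) := by rw [hid]
    _ = act x (fun b => v (iv 0 h b)) i := act_blk_in _ x v i
    _ = act x v i := by rw [funext fun b => congrArg v (hid b)]

theorem range_emb {k m : ℕ} (hq : q ≠ 0) (i : ℕ) (h : i + k ≤ m) {T : Finset (Fin m)}
    (hT : ∀ j : Fin m, j ∈ T ↔ i ≤ (j : ℕ) ∧ (j : ℕ) < i + k) :
    (emb (F := F) (q := q) i h).range = SOn T := by
  have e : Finset.univ.map (iv i h) = T := by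
    ext j
    rw [hT, Finset.mem_map]
    constructor
    · rintro ⟨a, -, rfl⟩
      have := a.2
      simp
    · intro hj
      exact ⟨⟨(j : ℕ) - i, by omega⟩, Finset.mem_univ _, Fin.ext (by simp; omega)⟩
  rw [emb, range_blk hq, e]

variable (hF : Fintype.card F = q ^ 2)

include hF in
/-- The two end blocks generate. -/
theorem closure_ends {m : ℕ} (hm : 5 ≤ m) (S : Subgroup (Cfsg.SU m F q))
    (h0 : ∀ y : Cfsg.SU (m - 1) F q, emb 0 (by omega) y ∈ S)
    (h1 : ∀ y : Cfsg.SU (m - 1) F q, emb 1 (by omega) y ∈ S) : S = ⊤ := by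
  have hq := q_ne_zero hF
  rw [eq_top_iff, ← gen_two hF hm (a := ⟨0, by omega⟩) (z := ⟨m - 1, by omega⟩)
    (by simp [Fin.ext_iff]; omega)]
  refine sup_le ?_ ?_
  · rw [← range_emb (k := m - 1) hq 0 (by omega) (T := Finset.univ.erase ⟨m - 1, by omega⟩) fun j => by
      have := j.2
      simp [Fin.ext_iff]; omega]
    rintro _ ⟨y, rfl⟩
    exact h0 y
  · rw [← range_emb (k := m - 1) hq 1 (by omega) (T := Finset.univ.erase ⟨0, by omega⟩) fun j => by
      have := j.2
      simp [Fin.ext_iff]; omega]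
    rintro _ ⟨y, rfl⟩
    exact h1 y

include hF in
/-- Homomorphisms are determined by the consecutive four-coordinate blocks. -/
theorem hom_ext : ∀ {m : ℕ}, 4 ≤ m → ∀ f f' : Cfsg.SU m F q →* G,
    (∀ (j : ℕ) (h : j + 4 ≤ m) (x : Cfsg.SU 4 F q), f (emb j h x) = f' (emb j h x)) → f = f' := by
  intro m hm
  induction m, hm using Nat.le_induction with
  | base =>
    intro f f' h
    exact MonoidHom.ext fun x => by simpa [emb_self] using h 0 (by omega) x
  | succ m hm ih =>
    intro f f' h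
    have key : ∀ (i : ℕ) (hi : i + m ≤ m + 1) (y : Cfsg.SU m F q), f (emb i hi y) = f' (emb i hi y) := by
      intro i hi y
      refine DFunLike.congr_fun (ih (f.comp (emb i hi)) (f'.comp (emb i hi)) fun j hj x => ?_) y
      simp only [MonoidHom.comp_apply, emb_emb]
      exact h (i + j) (by omega) x
    have htop := closure_ends hF (m := m + 1) (by omega) (f.eqLocus f')
      (fun y => key 0 (by omega) y) (fun y => key 1 (by omega) y)
    exact MonoidHom.eq_of_eqOn_top fun x _ => (htop ▸ Subgroup.mem_top x : x ∈ f.eqLocus f')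

variable (D : Seq N G F q)

omit [Fintype F] in
theorem Seq.th_congr {i i' : ℕ} (e : i = i') (h : i + 4 ≤ N) (x : Cfsg.SU 4 F q) :
    D.th i h x = D.th i' (e ▸ h) x := by
  subst e; rfl

omit [Fintype F] in
theorem Seq.phi_congr {i i' : ℕ} (e : i = i') (h : i + 3 ≤ N) (x : Cfsg.SU 3 F q) :
    D.phi i h x = D.phi i' (e ▸ h) x := by
  subst e; rfl

include hF in
theorem Seq.exists_interval : ∀ m : ℕ, 4 ≤ m → ∀ (i : ℕ) (_ : i + m ≤ N), ∃ f : Cfsg.SU m F q →* G,
    ∀ (j : ℕ) (hj : j + 4 ≤ m) (x : Cfsg.SU 4 F q), f (emb j hj x) = D.th (i + j) (by omega) x := by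
  classical
  intro m hm
  induction m, hm using Nat.le_induction with
  | base =>
    intro i hi
    refine ⟨D.th i hi, fun j hj x => ?_⟩
    obtain rfl : j = 0 := by omega
    rw [emb_self]
    rfl
  | succ m hm ih =>
    intro i hi
    have hq := q_ne_zero hF
    obtain ⟨f, hf⟩ := ih i (by omega)
    obtain ⟨f', hf'⟩ := ih (i + 1) (by omega)
    let z : Fin (m + 1) := ⟨m, by omega⟩
    let a : Fin (m + 1) := ⟨0, by omega⟩
    let e0 : Cfsg.SU m F q →* Cfsg.SU (m + 1) F q := emb 0 (by omega)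
    let e1 : Cfsg.SU m F q →* Cfsg.SU (m + 1) F q := emb 1 (by omega)
    have hr0 : e0.range = SOn (Finset.univ.erase z) :=
      range_emb hq 0 (by omega) fun j => by have := j.2; simp [z, Fin.ext_iff]; omega
    have hr1 : e1.range = SOn (Finset.univ.erase a) :=
      range_emb hq 1 (by omega) fun j => by have := j.2; simp only [a, Finset.mem_erase, Finset.mem_univ, and_true, ne_eq, Fin.ext_iff]; omega
    have hi0 : Function.Injective e0 := blk_injective _
    have hi1 : Function.Injective e1 := blk_injective _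
    set K := (f.prod e0).range with hKdef
    set L := (f'.prod e1).range with hLdef
    have hK : Part z K := by
      refine ⟨?_, fun x hx => ?_, ?_⟩
      · rintro _ ⟨y, rfl⟩
        exact hr0 ▸ ⟨y, rfl⟩
      · obtain ⟨y, rfl⟩ := hr0.symm ▸ hx
        exact ⟨_, ⟨y, rfl⟩, rfl⟩
      · rintro _ ⟨y, rfl⟩ h
        obtain rfl : y = 1 := hi0 (by rw [map_one]; exact h)
        exact map_one _
    have hL : Part a L := by
      refine ⟨?_, fun x hx => ?_, ?_⟩
      · rintro _ ⟨y, rfl⟩
        exact hr1 ▸ ⟨y, rfl⟩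
      · obtain ⟨y, rfl⟩ := hr1.symm ▸ hx
        exact ⟨_, ⟨y, rfl⟩, rfl⟩
      · rintro _ ⟨y, rfl⟩ h
        obtain rfl : y = 1 := hi1 (by rw [map_one]; exact h)
        exact map_one _
    -- agreement on the middle
    have hmid : ∀ u : Cfsg.SU (m - 1) F q, f (emb 1 (by omega) u) = f' (emb 0 (by omega) u) := by
      rcases Nat.eq_or_lt_of_le hm with h4 | h4
      · obtain rfl : m = 4 := h4.symm
        intro u
        have e1 := hf 0 (by omega) (emb 1 (by omega) u)
        have e2 := hf' 0 (by omega) (emb 0 (by omega) u)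
        rw [emb_self, D.th_right] at e1
        rw [emb_self, D.th_left] at e2
        rw [e1, e2]
      · intro u
        refine DFunLike.congr_fun (hom_ext hF (show 4 ≤ m - 1 by omega) (f.comp (emb 1 (by omega)))
          (f'.comp (emb 0 (by omega))) fun j hj x => ?_) u
        simp only [MonoidHom.comp_apply, emb_emb]
        rw [hf (1 + j) (by omega), hf' (0 + j) (by omega)]
        exact D.th_congr (by omega) _ _
    have hagree : ∀ g ∈ K, ∀ h ∈ L, g.2 = h.2 → g = h := by
      rintro _ ⟨y, rfl⟩ _ ⟨y', rfl⟩ e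
      change e0 y = e1 y' at e
      refine Prod.ext ?_ e
      have hmem : e0 y ∈ (emb (F := F) (q := q) (k := m - 1) (m := m + 1) 1 (by omega)).range := by
        rw [range_emb (k := m - 1) hq 1 (by omega) (T := (Finset.univ.erase z).erase a) fun j => by
          have := j.2; simp only [a, z, Finset.mem_erase, Finset.mem_univ, and_true, ne_eq, Fin.ext_iff]; omega]
        have h0 : e0 y ∈ SOn (Finset.univ.erase z) := hr0.le ⟨y, rfl⟩
        have h1 : e0 y ∈ SOn (Finset.univ.erase a) := e ▸ hr1.le ⟨y', rfl⟩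
        intro i hi
        by_cases hiz : i = z
        · exact h0 i (by simp [hiz])
        · exact h1 i (by simpa [hiz] using hi)
      obtain ⟨u, hu⟩ := hmem
      have hy : y = emb 1 (by omega) u := hi0 (by
        show _ = emb 0 _ (emb 1 _ u)
        rw [emb_emb]; exact hu.symm)
      have hy' : y' = emb 0 (by omega) u := hi1 (by
        show _ = emb 1 _ (emb 0 _ u)
        rw [emb_emb]; exact e.symm.trans hu.symm)
      show f y = f' y'
      rw [hy, hy', hmid]
    -- values on the first and last small blocks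
    have hfirst : ∀ (y : Cfsg.SU m F q) (u : Cfsg.SU 3 F q), e0 y = emb 0 (by omega) u →
        f y = D.phi i (by omega) u := by
      intro y u h
      have hy : y = emb 0 (by omega) (emb (k := 3) (m := 4) 0 (by omega) u) := hi0 (by
        show _ = emb 0 _ (emb 0 _ (emb 0 _ u))
        rw [emb_emb, emb_emb]; exact h)
      rw [hy, hf 0 (by omega), D.th_left]
      rfl
    have hlast : ∀ (y : Cfsg.SU m F q) (u : Cfsg.SU 3 F q), e1 y = emb (m - 2) (by omega) u →
        f' y = D.phi (i + (m - 2)) (by omega) u := by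
      intro y u h
      have hy : y = emb (m - 4) (by omega) (emb (k := 3) (m := 4) 1 (by omega) u) := hi1 (by
        show _ = emb 1 _ (emb (m - 4) _ (emb 1 _ u))
        rw [emb_emb, emb_emb, h]
        exact emb_congr (by omega) _ u)
      rw [hy, hf' (m - 4) (by omega), D.th_right]
      exact D.phi_congr (by omega) _ _
    -- the interval of a given length at either end
    let R0 : ℕ → Finset (Fin (m + 1)) := fun k => Finset.univ.filter fun j => (j : ℕ) < k
    let R1 : ℕ → Finset (Fin (m + 1)) := fun l => Finset.univ.filter fun j => m + 1 ≤ (j : ℕ) + l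
    have hR0 : ∀ k, k ≤ m + 1 → (R0 k).card = k := fun k hk => by
      rw [show R0 k = Finset.univ.map (iv (k := k) (m := m + 1) 0 (by omega)) from ?_, Finset.card_map,
        Finset.card_univ, Fintype.card_fin]
      ext j
      simp only [R0, Finset.mem_filter, Finset.mem_univ, true_and, Finset.mem_map]
      exact ⟨fun h => ⟨⟨j, h⟩, Fin.ext (by simp)⟩, fun ⟨b, hb⟩ => by rw [← hb]; simp⟩
    have hR1 : ∀ l, l ≤ m + 1 → (R1 l).card = l := fun l hl => by
      rw [show R1 l = Finset.univ.map (iv (k := l) (m := m + 1) (m + 1 - l) (by omega)) from ?_, Finset.card_map,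
        Finset.card_univ, Fintype.card_fin]
      ext j
      simp only [R1, Finset.mem_filter, Finset.mem_univ, true_and, Finset.mem_map]
      refine ⟨fun h => ⟨⟨(j : ℕ) - (m + 1 - l), by have := j.2; omega⟩, Fin.ext (by simp; omega)⟩,
        fun ⟨b, hb⟩ => ?_⟩
      rw [← hb]
      simp
      omega
    -- the standard commutations
    have std : ∀ k l, k + l ≤ m + 1 → ((k = 3 ∧ l = 3) ∨ (k = 2 ∧ l = 3 ∧ m = 4) ∨ (k = 3 ∧ l = 2 ∧ m = 4)) →
        ∀ g ∈ K, ∀ h ∈ L, g.2 ∈ SOn (R0 k) → h.2 ∈ SOn (R1 l) → Commute g h := by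
      rintro k l hkl hc _ ⟨y, rfl⟩ _ ⟨y', rfl⟩ hg hh
      change e0 y ∈ SOn (R0 k) at hg
      change e1 y' ∈ SOn (R1 l) at hh
      have hd : Disjoint (R0 k) (R1 l) := Finset.disjoint_left.2 fun j h1 h2 => by
        simp [R0, R1] at h1 h2; omega
      refine Prod.ext ?_ (commute_of_disjoint hF hd hg hh).eq
      show f y * f' y' = f' y' * f y
      rw [← range_emb (k := k) hq 0 (by omega) (T := R0 k) fun j => by simp [R0]] at hg
      rw [← range_emb (k := l) hq (m + 1 - l) (by omega) (T := R1 l) fun j => by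
        have := j.2; simp [R1]; omega] at hh
      obtain ⟨u, hu⟩ := hg
      obtain ⟨u', hu'⟩ := hh
      rcases hc with ⟨rfl, rfl⟩ | ⟨rfl, rfl, rfl⟩ | ⟨rfl, rfl, rfl⟩
      · rw [hfirst y u hu.symm, hlast y' u' (hu'.symm.trans (emb_congr (by omega) _ u'))]
        exact (D.far33 _ _ _ _ (by omega) u u').eq
      · rw [hfirst y (left2 u) (by rw [emb_emb]; exact hu.symm),
          hlast y' u' (hu'.symm.trans (emb_congr (by omega) _ u'))]
        exact (D.far23 _ _ _ _ (by omega) u u').eq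
      · rw [hfirst y u hu.symm, hlast y' (right2 u') (by rw [emb_emb]; exact hu'.symm.trans (emb_congr (by omega) _ u'))]
        exact (D.far32 _ _ _ _ (by omega) u u').eq
    have hcomm : ∀ R R' : Finset (Fin (m + 1)), R.card ≤ 3 → R'.card ≤ 3 → Disjoint R R' → a ∈ R → z ∈ R' →
        ∀ g ∈ K, ∀ h ∈ L, g.2 ∈ SOn R → h.2 ∈ SOn R' → Commute g h := by
      intro R R' hR hR' hd haR hzR g hg h hh hgR hhR
      obtain ⟨k, l, hkl, hkR, hlR, hc⟩ : ∃ k l, k + l ≤ m + 1 ∧ R.card ≤ k ∧ R'.card ≤ l ∧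
          ((k = 3 ∧ l = 3) ∨ (k = 2 ∧ l = 3 ∧ m = 4) ∨ (k = 3 ∧ l = 2 ∧ m = 4)) := by
        have hle : R.card + R'.card ≤ m + 1 := by
          rw [← Finset.card_union_of_disjoint hd]
          exact (Finset.card_le_univ _).trans_eq (Fintype.card_fin _)
        by_cases h6 : 5 ≤ m
        · exact ⟨3, 3, by omega, hR, hR', Or.inl ⟨rfl, rfl⟩⟩
        · by_cases h2 : R.card ≤ 2
          · exact ⟨2, 3, by omega, h2, hR', Or.inr (Or.inl ⟨rfl, rfl, by omega⟩)⟩
          · exact ⟨3, 2, by omega, hR, by omega, Or.inr (Or.inr ⟨rfl, rfl, by omega⟩)⟩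
      obtain ⟨S, hRS, hSd, hSc⟩ := Finset.exists_subsuperset_card_eq (s := R) (t := R'ᶜ) (n := k)
        (fun x hx => Finset.mem_compl.2 (Finset.disjoint_left.1 hd hx)) hkR
        (by rw [Finset.card_compl, Fintype.card_fin]; omega)
      obtain ⟨S', hRS', hSd', hSc'⟩ := Finset.exists_subsuperset_card_eq (s := R') (t := Sᶜ) (n := l)
        (fun x hx => Finset.mem_compl.2 fun hxS => Finset.mem_compl.1 (hSd hxS) hx) hlR
        (by rw [Finset.card_compl, Fintype.card_fin]; omega)
      refine comm_of_std hF hK hL hagree (Rs := R0 k) (Rs' := R1 l) ?_ ?_ ?_ (std k l hkl hc) S S'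
        (hSc.trans (hR0 k (by omega)).symm) (hSc'.trans (hR1 l (by omega)).symm)
        (Finset.disjoint_left.2 fun x hx hx' => Finset.mem_compl.1 (hSd' hx') hx)
        (hRS haR) (hRS' hzR) g hg h hh (SOn_mono hRS hgR) (SOn_mono hRS' hhR)
      · exact Finset.disjoint_left.2 fun j h1 h2 => by simp [R0, R1] at h1 h2; omega
      · simp [R0, a]; omega
      · simp [R1, z]; omega
    obtain ⟨φ, hφK, hφL⟩ := Two.exists_hom (a := a) (z := z) (K := K) (L := L)
      ⟨hF, by omega, by simp [a, z, Fin.ext_iff]; omega, hK, hL, hagree, hcomm⟩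
    refine ⟨φ, fun j hj x => ?_⟩
    by_cases hj0 : j + 4 ≤ m
    · have e : emb j hj x = e0 (emb j hj0 x) := by
        show _ = emb 0 _ (emb j hj0 x)
        rw [emb_emb]; exact emb_congr (by omega) _ x
      rw [e]
      exact (hφK _ ⟨emb j hj0 x, rfl⟩).trans (hf j hj0 x)
    · have e : emb j hj x = e1 (emb (j - 1) (by omega) x) := by
        show _ = emb 1 _ (emb (j - 1) _ x)
        rw [emb_emb]; exact emb_congr (by omega) _ x
      rw [e]
      exact (hφL _ ⟨emb (j - 1) (by omega) x, rfl⟩).trans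
        ((hf' (j - 1) (by omega) x).trans (D.th_congr (by omega) _ _))

include hF in
/-- The completion. -/
theorem Seq.exists_hom (hN : 4 ≤ N) : ∃ f : Cfsg.SU N F q →* G,
    (∀ (i : ℕ) (h : i + 4 ≤ N) (x : Cfsg.SU 4 F q), f (emb i h x) = D.th i h x) ∧
    ∀ (i : ℕ) (h : i + 3 ≤ N) (x : Cfsg.SU 3 F q), f (emb i h x) = D.phi i h x := by
  obtain ⟨f, hf⟩ := D.exists_interval hF N hN 0 (by omega)
  have h4 : ∀ (i : ℕ) (h : i + 4 ≤ N) (x : Cfsg.SU 4 F q), f (emb i h x) = D.th i h x := fun i h x => by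
    rw [hf i h x]
    exact D.th_congr (by omega) _ _
  refine ⟨f, h4, fun i h x => ?_⟩
  by_cases hi : i + 4 ≤ N
  · rw [← D.th_left i hi, ← h4, emb_emb]
    rfl
  · obtain ⟨j, rfl⟩ : ∃ j, i = j + 1 := ⟨i - 1, by omega⟩
    rw [← D.th_right j (by omega), ← h4, emb_emb]

end CfsgLib.Recog.Phan.Small
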