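import Cfsg.Agent.Lib.Pres.SUAmalgam
import Cfsg.Agent.Lib.Pres.SUGlueMain

/-!
# Completion of the special unitary group from two coordinate hyperplanes

`G × SU m` contains lifts of the blocks missing one of two distinguished coordinates `a`, `z`; they agree on
the common part and lifts with small disjoint supports commute.  Then the lifts are the graph of a
homomorphism `SU m →* G`.  There is no restriction on the field.
-/

set_option autoImplicit false

namespace CfsgLib.Recog.Phan.Small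

open CfsgLib.Pres.SUn

variable {G : Type*} [Group G] {F : Type*} [Field F] [Fintype F] {q m : ℕ} (hF : Fintype.card F = q ^ 2)

/-- A lift of the block of the coordinates different from `c`. -/
structure Part (c : Fin m) (D : Subgroup (G × Cfsg.SU m F q)) : Prop where
  mem : ∀ g ∈ D, g.2 ∈ SOn (Finset.univ.erase c)
  surj : ∀ x ∈ (SOn (Finset.univ.erase c) : Subgroup (Cfsg.SU m F q)), ∃ g ∈ D, g.2 = x
  inj : ∀ g ∈ D, g.2 = 1 → g = 1

section Basic

variable {c : Fin m} {D : Subgroup (G × Cfsg.SU m F q)}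

omit [Fintype F] in
theorem Part.eq_of (hD : Part c D) {g h : G × Cfsg.SU m F q} (hg : g ∈ D) (hh : h ∈ D) (e : g.2 = h.2) : g = h :=
  inv_mul_eq_one.1 (hD.inj _ (mul_mem (inv_mem hg) hh) (by simp [e]))

omit [Fintype F] in
theorem Part.surj_of (hD : Part c D) {T : Finset (Fin m)} (hT : c ∉ T) {x : Cfsg.SU m F q} (hx : x ∈ SOn T) :
    ∃ g ∈ D, g.2 = x :=
  hD.surj x (SOn_mono (fun i hi => Finset.mem_erase.2 ⟨fun e => hT (by rw [← e]; exact hi), Finset.mem_univ i⟩) hx)

include hF in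
theorem Part.commute (hD : Part c D) {g h : G × Cfsg.SU m F q} (hg : g ∈ D) (hh : h ∈ D) {R R' : Finset (Fin m)}
    (hd : Disjoint R R') (h1 : g.2 ∈ SOn R) (h2 : h.2 ∈ SOn R') : Commute g h :=
  hD.eq_of (mul_mem hg hh) (mul_mem hh hg) (commute_of_disjoint hF hd h1 h2).eq

end Basic

include hF in
/-- An element on two coordinates exchanging them. -/
theorem exists_swap {x y : Fin m} (hxy : x ≠ y) : ∃ w ∈ (SOn {x, y} : Subgroup (Cfsg.SU m F q)),
    ∀ i : Fin m, ∃ l : F, l ≠ 0 ∧ act w (Pi.single i 1) = l • Pi.single (Equiv.swap x y i) 1 := by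
  classical
  have hq := q_ne_zero hF
  obtain ⟨w, hw, hwx⟩ := on_unit hF (T := ({x, y} : Finset (Fin m))) (by rw [Finset.card_pair hxy])
    (x := Pi.single x 1) (y := Pi.single y 1) (fun i hi => single_out (by simp) hi)
    (fun i hi => single_out (by simp) hi) (herm_unit hF x) (herm_unit hF y)
  refine ⟨w, hw, fun i => ?_⟩
  by_cases hi : i ∈ ({x, y} : Finset (Fin m))
  · simp only [Finset.mem_insert, Finset.mem_singleton] at hi
    rcases hi with rfl | rfl
    · exact ⟨1, one_ne_zero, by rw [hwx, one_smul, Equiv.swap_apply_left]⟩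
    · have h0 : act w (Pi.single i 1) i = 0 := by
        have h1 := act_herm w (Pi.single i 1) (Pi.single x 1)
        rwa [hwx, herm_single_right hq, herm_single_right hq, Pi.single_eq_of_ne hxy] at h1
      have hs := supp_of_mem hF hw (a := i) (by simp)
      have e : act w (Pi.single i 1) = act w (Pi.single i 1) x • Pi.single x 1 := funext fun j => by
        by_cases hjx : j = x
        · subst hjx; simp
        · rw [Pi.smul_apply, Pi.single_eq_of_ne hjx, smul_zero]
          by_cases hji : j = i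
          · subst hji; exact h0
          · exact hs j (by simp [hjx, hji])
      refine ⟨_, fun hz => ?_, by rw [Equiv.swap_apply_right]; exact e⟩
      rw [hz, zero_smul] at e
      have h1 := herm_unit (q := q) hF i
      rw [← act_herm w, e] at h1
      simp [Cfsg.hermForm] at h1
  · refine ⟨1, one_ne_zero, ?_⟩
    simp only [Finset.mem_insert, Finset.mem_singleton, not_or] at hi
    rw [one_smul, Equiv.swap_apply_of_ne_of_ne hi.1 hi.2]
    exact hw i (by simp [hi.1, hi.2])

omit [Fintype F] in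
/-- A monomial element moves the blocks. -/
theorem conj_SOn {w : Cfsg.SU m F q} {σ : Equiv.Perm (Fin m)}
    (hw : ∀ i : Fin m, ∃ l : F, l ≠ 0 ∧ act w (Pi.single i 1) = l • Pi.single (σ i) 1) {T T' : Finset (Fin m)}
    (hT : ∀ i, i ∉ T' → σ.symm i ∉ T) {y : Cfsg.SU m F q} (hy : y ∈ SOn T) : w * y * w⁻¹ ∈ SOn T' := by
  intro i hi
  obtain ⟨l, hl, hli⟩ := hw (σ.symm i)
  rw [Equiv.apply_symm_apply] at hli
  have h1 : act w⁻¹ (Pi.single i 1) = l⁻¹ • Pi.single (σ.symm i) 1 := by
    refine act_inj w ?_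
    rw [act_act_inv, act_smul, hli, smul_smul, inv_mul_cancel₀ hl, one_smul]
  rw [act_mul, act_mul, h1, act_smul, hy _ (hT i hi), act_smul, hli, smul_smul, inv_mul_cancel₀ hl, one_smul]

omit [Fintype F] in
/-- Conjugation back by a transposition. -/
theorem conj_SOn' {w : Cfsg.SU m F q} {σ : Equiv.Perm (Fin m)}
    (hw : ∀ i : Fin m, ∃ l : F, l ≠ 0 ∧ act w (Pi.single i 1) = l • Pi.single (σ i) 1) {T T' : Finset (Fin m)}
    (hT : ∀ i, i ∉ T' → σ i ∉ T) {y : Cfsg.SU m F q} (hy : y ∈ SOn T) : w⁻¹ * y * w ∈ SOn T' := by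
  have h : ∀ i : Fin m, ∃ l : F, l ≠ 0 ∧ act w⁻¹ (Pi.single i 1) = l • Pi.single (σ.symm i) 1 := fun i => by
    obtain ⟨l, hl, hli⟩ := hw (σ.symm i)
    rw [Equiv.apply_symm_apply] at hli
    refine ⟨l⁻¹, inv_ne_zero hl, act_inj w ?_⟩
    rw [act_act_inv, act_smul, hli, smul_smul, inv_mul_cancel₀ hl, one_smul]
  have := conj_SOn h (T := T) (T' := T') (fun i hi => by simpa using hT i hi) hy
  rwa [inv_inv] at this

/-- The two lifts. -/
structure Two (a z : Fin m) (K L : Subgroup (G × Cfsg.SU m F q)) : Prop where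
  card : Fintype.card F = q ^ 2
  five : 5 ≤ m
  ne : a ≠ z
  partK : Part z K
  partL : Part a L
  agree : ∀ g ∈ K, ∀ h ∈ L, g.2 = h.2 → g = h
  comm : ∀ R R' : Finset (Fin m), R.card ≤ 3 → R'.card ≤ 3 → Disjoint R R' → a ∈ R → z ∈ R' →
    ∀ g ∈ K, ∀ h ∈ L, g.2 ∈ SOn R → h.2 ∈ SOn R' → Commute g h

variable {a z : Fin m} {K L : Subgroup (G × Cfsg.SU m F q)} (H : Two a z K L)

namespace Two

include H

/-- The first lift commutes with the second on disjoint supports, one of them small. -/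
theorem comm_pair {c : Fin m} {k g : G × Cfsg.SU m F q} (hk : k ∈ K) (hk2 : k.2 ∈ SOn {a, c})
    (hg : g ∈ L) (hg2 : g.2 ∈ SOn ((Finset.univ.erase a).erase c)) : Commute k g := by
  classical
  set T := (Finset.univ.erase a).erase c with hT
  have h2 : 3 ≤ T.card := by
    have h1 := Finset.card_erase_of_mem (Finset.mem_univ a)
    rw [Finset.card_univ, Fintype.card_fin] at h1
    have h2 := Finset.pred_card_le_card_erase (a := c) (s := Finset.univ.erase a)
    have := H.five
    rw [← hT] at h2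
    omega
  suffices h : ∀ x ∈ Subgroup.closure {g : Cfsg.SU m F q | ∃ R : Finset (Fin m), R ⊆ T ∧ R.card = 3 ∧ g ∈ SOn R},
      ∃ l ∈ L, l.2 = x ∧ Commute k l by
    obtain ⟨l, hl, hl2, hcm⟩ := h _ (gen_three H.card h2 hg2)
    rwa [H.partL.eq_of hg hl hl2.symm]
  intro x hx
  induction hx using Subgroup.closure_induction with
  | mem y hy =>
    obtain ⟨R, hRT, hR3, hy⟩ := hy
    have haR : a ∉ R := fun h => Finset.notMem_erase a _ (Finset.mem_of_mem_erase (hRT h))
    have hcR : c ∉ R := fun h => Finset.notMem_erase c _ (hRT h)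
    obtain ⟨l, hl, hl2⟩ := H.partL.surj_of haR hy
    refine ⟨l, hl, hl2, ?_⟩
    have hd : Disjoint ({a, c} : Finset (Fin m)) R := by simp [haR, hcR]
    by_cases hzR : z ∈ R
    · exact H.comm _ R (Finset.card_le_two.trans (by norm_num)) hR3.le hd (by simp) hzR k hk l hl hk2 (hl2 ▸ hy)
    · obtain ⟨l', hl', hl2'⟩ := H.partK.surj_of hzR hy
      rw [← H.agree l' hl' l hl (hl2'.trans hl2.symm)]
      exact H.partK.commute H.card hk hl' hd hk2 (hl2' ▸ hy)
  | one => exact ⟨1, one_mem _, rfl, Commute.one_right k⟩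
  | mul y y' _ _ ih ih' =>
    obtain ⟨l, hl, e, cm⟩ := ih
    obtain ⟨l', hl', e', cm'⟩ := ih'
    exact ⟨l * l', mul_mem hl hl', by rw [Prod.snd_mul, e, e'], cm.mul_right cm'⟩
  | inv y _ ih =>
    obtain ⟨l, hl, e, cm⟩ := ih
    exact ⟨l⁻¹, inv_mem hl, by rw [Prod.snd_inv, e], cm.inv_right⟩

/-- The lift of the hyperplane missing a further coordinate. -/
theorem exists_part {c : Fin m} (hca : c ≠ a) (hcz : c ≠ z) : ∃ D : Subgroup (G × Cfsg.SU m F q), Part c D ∧
    (∀ g ∈ K, g.2 ∈ SOn (Finset.univ.erase c) → g ∈ D) ∧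
    (∀ g ∈ L, g.2 ∈ SOn (Finset.univ.erase c) → g ∈ D) ∧
    ∃ k ∈ K, k.2 ∈ SOn {a, c} ∧
      (∀ i : Fin m, ∃ l : F, l ≠ 0 ∧ act k.2 (Pi.single i 1) = l • Pi.single (Equiv.swap a c i) 1) ∧
      ∀ g, g ∈ D ↔ ∃ l ∈ L, g = k * l * k⁻¹ := by
  classical
  obtain ⟨w, hw, hws⟩ := exists_swap H.card (show a ≠ c from hca.symm)
  obtain ⟨k, hk, rfl⟩ := H.partK.surj_of (T := {a, c}) (by simp [H.ne.symm, hcz.symm]) hw
  set D := L.map (MulAut.conj k).toMonoidHom
  have hmem : ∀ g, g ∈ D ↔ ∃ l ∈ L, g = k * l * k⁻¹ := fun g => by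
    simp only [D, Subgroup.mem_map]
    exact ⟨fun ⟨l, hl, e⟩ => ⟨l, hl, e.symm⟩, fun ⟨l, hl, e⟩ => ⟨l, hl, e.symm⟩⟩
  have he : ∀ i : Fin m, i ∉ Finset.univ.erase c → (Equiv.swap a c).symm i ∉ Finset.univ.erase a := fun i hi => by
    simp only [Finset.mem_erase, Finset.mem_univ, and_true, not_not] at hi
    subst hi
    simp
  have he' : ∀ i : Fin m, i ∉ Finset.univ.erase a → Equiv.swap a c i ∉ Finset.univ.erase c := fun i hi => by
    simp only [Finset.mem_erase, Finset.mem_univ, and_true, not_not] at hi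
    subst hi
    simp
  have hpart : Part c D := by
    refine ⟨fun g hg => ?_, fun x hx => ?_, fun g hg hg1 => ?_⟩
    · obtain ⟨l, hl, rfl⟩ := (hmem g).1 hg
      exact conj_SOn hws he (H.partL.mem l hl)
    · obtain ⟨l, hl, hl2⟩ := H.partL.surj _ (conj_SOn' hws he' hx)
      exact ⟨k * l * k⁻¹, (hmem _).2 ⟨l, hl, rfl⟩, by simp [hl2, mul_assoc]⟩
    · obtain ⟨l, hl, rfl⟩ := (hmem g).1 hg
      have : l.2 = 1 := by simpa [mul_inv_eq_one] using hg1
      simp [H.partL.inj l hl this]
  refine ⟨D, hpart, fun g hg hgc => ?_, fun g hg hgc => ?_, k, hk, hw, hws, hmem⟩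
  · -- common elements with the first lift
    obtain ⟨g', hg', e'⟩ := hpart.surj _ hgc
    obtain ⟨l, hl, rfl⟩ := (hmem g').1 hg'
    have hzero : l.2 ∈ SOn ((Finset.univ.erase z).erase a) := by
      have h1 : l.2 = k.2⁻¹ * g.2 * k.2 := by rw [← e']; simp [mul_assoc]
      have hg2 : g.2 ∈ SOn ((Finset.univ.erase z).erase c) := fun i hi => by
        by_cases hic : i = c
        · exact hgc i (by simp [hic])
        · exact H.partK.mem g hg i (by simpa [hic] using hi)
      rw [h1]
      refine conj_SOn' hws (fun i hi => ?_) hg2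
      simp only [Finset.mem_erase, Finset.mem_univ, and_true, not_and_or, not_not] at hi ⊢
      rcases hi with rfl | rfl
      · simp
      · exact Or.inr (Equiv.swap_apply_of_ne_of_ne H.ne.symm hcz.symm)
    obtain ⟨l', hl', hl2'⟩ := H.partK.surj_of (T := (Finset.univ.erase z).erase a) (by simp) hzero
    obtain rfl : l' = l := H.agree l' hl' l hl hl2'
    rwa [H.partK.eq_of hg (mul_mem (mul_mem hk hl') (inv_mem hk)) e'.symm]
  · -- common elements with the second lift
    refine (hmem g).2 ⟨g, hg, ?_⟩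
    have hg2 : g.2 ∈ SOn ((Finset.univ.erase a).erase c) := fun i hi => by
      by_cases hic : i = c
      · exact hgc i (by simp [hic])
      · exact H.partL.mem g hg i (by simpa [hic] using hi)
    rw [(H.comm_pair hk hw hg hg2).eq, mul_inv_cancel_right]

end Two

end CfsgLib.Recog.Phan.Small
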