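import Cfsg.Agent.Lib.Recog.Phan.Small.TwoBasic
import Cfsg.Agent.Lib.Recog.Phan.Geom
import Cfsg.Agent.Lib.Classical.UnitaryGen

/-!
`SU₄(2)`: the axis of an element of order three centralised by an element of order four, and the
copies of `SU₃(2)` and of `SU₂(2)` determined by such axes.
-/

set_option autoImplicit false
set_option linter.unusedSectionVars false

namespace CfsgLib.Recog.Phan.Two

open Matrix CfsgLib.MaxSub CfsgLib.Recog.Phan CfsgLib.Recog.Phan.Norm
open CfsgLib.Pres.SUn (act SOn blk range_blk act_mul act_one act_inv_act act_smul act_add act_herm act_inj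
  eq_of_act act_blk_in act_blk_out act_apply_out herm_single_right su_trans blk_injective act_act_inv)

universe u
variable {F : Type u} [Field F] [Fintype F] (hF : Fintype.card F = 2 ^ 2)

local notation "⟪" x ", " y "⟫" => Cfsg.hermForm _ F 2 x y
local notation "e_[" i "]" => (Pi.single i (1 : F) : Fin _ → F)

omit [Fintype F] in
theorem herm_single {n : ℕ} (x : Fin n → F) (i : Fin n) : ⟪x, e_[i]⟫ = x i :=
  herm_single_right two_ne_zero x i

include hF

theorem herm_one_of_ne {n : ℕ} {v : Fin n → F} (h : ⟪v, v⟫ ≠ 0) : ⟪v, v⟫ = 1 := by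
  have h2 := CfsgLib.Pres.SUn.herm_fixed hF v
  exact mul_left_cancel₀ h (by rw [← sq, h2, mul_one])

theorem sq_ne_one {l : F} (h : l ≠ 1) : l ^ 2 ≠ 1 := fun e => by
  have : (l - 1) ^ 2 = 0 := by linear_combination e + (1 - l) * two_zero hF
  exact h (sub_eq_zero.1 (eq_zero_of_pow_eq_zero this))

theorem units_cases {c d : Fˣ} (hc : c ≠ 1) (hd : d ≠ 1) : d = c ∨ d = c⁻¹ := by
  have h2 := two_zero hF
  have hc3 := cube_one hF c.ne_zero
  have hd3 := cube_one hF d.ne_zero
  have hc1 : (c : F) ≠ 1 := fun h => hc (Units.ext h)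
  have hd1 : (d : F) ≠ 1 := fun h => hd (Units.ext h)
  have ec : (c : F) * c + c + 1 = 0 :=
    (mul_eq_zero.1 (show ((c : F) - 1) * (c * c + c + 1) = 0 by linear_combination hc3)).resolve_left
      (sub_ne_zero.2 hc1)
  have ed : (d : F) * d + d + 1 = 0 :=
    (mul_eq_zero.1 (show ((d : F) - 1) * (d * d + d + 1) = 0 by linear_combination hd3)).resolve_left
      (sub_ne_zero.2 hd1)
  rcases mul_eq_zero.1 (show ((d : F) - c) * (d + c + 1) = 0 by linear_combination ed - ec) with h | h
  · exact Or.inl (Units.ext (sub_eq_zero.1 h))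
  · refine Or.inr (eq_inv_of_mul_eq_one_right (Units.ext ?_))
    show (c : F) * d = 1
    linear_combination (c : F) * h - ec

theorem tor_eq_one {c : Fˣ} (h : tor hF c = 1) : c = 1 := by
  have := congrFun (congrFun (congrArg mat h) 0) 0
  rw [mat_tor, mat_one] at this
  exact Units.ext (by simpa using this)

theorem sw_tor (c : Fˣ) : sw hF * tor hF c = tor hF c⁻¹ * sw hF := mat_ext (by
  rw [mat_mul, mat_mul, mat_sw, mat_tor, mat_tor]
  ext i j; fin_cases i <;> fin_cases j <;> simp [Matrix.mul_apply, Fin.sum_univ_two])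

theorem sw_ne_one : sw hF ≠ 1 := fun h => by
  have := congrFun (congrFun (congrArg mat h) 0) 0
  rw [mat_sw, mat_one] at this
  simp at this

theorem eq_tor_of_cube {x : Cfsg.SU 2 F 2} (h3 : x ^ 3 = 1) (h1 : x ≠ 1) : ∃ c : Fˣ, c ≠ 1 ∧ x = tor hF c := by
  obtain ⟨c, rfl | rfl⟩ := su2_cases hF x
  · exact ⟨c, fun e => h1 (by rw [e, tor_one]), rfl⟩
  · refine absurd ?_ h1
    have hsq : tor hF c * sw hF * (tor hF c * sw hF) = 1 := by
      rw [mul_assoc, ← mul_assoc (sw hF), sw_tor, mul_assoc, sw_sq, mul_one, tor_mul, mul_inv_cancel, tor_one]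
    rwa [pow_succ, sq, hsq, one_mul] at h3

/-- The scalar matrices of `SU₃`. -/
noncomputable def zc (c : Fˣ) : Cfsg.SU 3 F 2 := left2 (tor hF c) * right2 (tor hF c⁻¹)

theorem act_zc (c : Fˣ) (v : Fin 3 → F) : act (zc hF c) v = (c : F) • v := by
  have hc3 := cube_one hF c.ne_zero
  rw [zc, act_mul, act_right hF, act_left hF, mat_tor, mat_tor]
  funext i; fin_cases i <;> simp
  field_simp
  linear_combination -(v 1) * hc3

theorem zc_comm (c : Fˣ) (x : Cfsg.SU 3 F 2) : Commute (zc hF c) x :=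
  eq_of_act fun v => by rw [act_mul, act_mul, act_zc, act_zc, act_smul]

theorem zc_mul (c d : Fˣ) : zc hF c * zc hF d = zc hF (c * d) :=
  eq_of_act fun v => by rw [act_mul, act_zc, act_zc, act_zc, smul_smul, Units.val_mul]

theorem zc_one : zc hF (1 : Fˣ) = 1 :=
  eq_of_act fun v => by rw [act_zc, act_one, Units.val_one, one_smul]

theorem zc_eq_one {c : Fˣ} (h : zc hF c = 1) : c = 1 := by
  have := congrFun (congrArg (fun g => act g (e_[(0 : Fin 3)])) h) 0
  simp only [act_zc, act_one] at this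
  exact Units.ext (by simpa using this)

theorem left_eq (c : Fˣ) : left2 (tor hF c) = zc hF c * right2 (tor hF c) := by
  rw [zc, mul_assoc, ← map_mul, tor_mul, inv_mul_cancel, tor_one, map_one, mul_one]

theorem right_eq (c : Fˣ) : right2 (tor hF c) = zc hF c⁻¹ * left2 (tor hF c) := by
  rw [(zc_comm hF c⁻¹ _).eq, zc, inv_inv, ← mul_assoc, ← map_mul, tor_mul, mul_inv_cancel, tor_one,
    map_one, one_mul]

/-- Conjugating an element of order four gives the distinguished eigenvector of an element of order three. -/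
theorem exists_axis_aux {z W : Cfsg.SU 4 F 2} (hz : z ^ 3 = 1) (hz1 : z ≠ 1) (hc : Commute z W)
    (hW : W ^ 4 = 1) (hW2 : W ^ 2 ≠ 1) :
    ∃ (l μ : F) (v : Fin 4 → F), l ≠ μ ∧ ⟪v, v⟫ = 1 ∧ act z v = μ • v ∧
      ∀ x, ⟪x, v⟫ = 0 → act z x = l • x := by
  classical
  have h2 := two_zero hF
  obtain ⟨w, hw⟩ := exists_omega hF
  let Z : (Fin 4 → F) →ₗ[F] (Fin 4 → F) := Matrix.mulVecLin (mat z)
  let E : F → Submodule F (Fin 4 → F) := fun l => LinearMap.ker (Z - l • LinearMap.id)
  have hE : ∀ l x, x ∈ E l ↔ act z x = l • x := fun l x => by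
    simp only [E, LinearMap.mem_ker, LinearMap.sub_apply, sub_eq_zero]; rfl
  have hz3 : ∀ x, act z (act z (act z x)) = x := fun x => by
    rw [← act_mul, ← act_mul, ← pow_two, ← pow_succ, hz, act_one]
  let P : F → (Fin 4 → F) → (Fin 4 → F) := fun l x => x + l ^ 2 • act z x + l • act z (act z x)
  have hP : ∀ l x, l ^ 3 = 1 → P l x ∈ E l := fun l x hl => by
    rw [hE]
    simp only [P, act_add, act_smul, hz3, smul_add, smul_smul]
    rw [show l * l ^ 2 = 1 by linear_combination hl, show l * l = l ^ 2 by ring, one_smul]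
    abel
  have hw1 : (w + 1) ^ 3 = 1 := by
    linear_combination (w + 4) * hw + (4 * w + 2) * h2
  have hw3 : w ^ 3 = 1 := cube_one hF (omega_ne hF hw).1
  have hsum : ∀ x, x = P 1 x + P w x + P (w + 1) x := fun x => by
    funext i
    simp only [P, Pi.add_apply, Pi.smul_apply, smul_eq_mul]
    linear_combination (-2 * act z x i) * hw - (x i + (2 * w + 2) * act z x i + (w + 1) * act z (act z x) i) * h2
  -- not all eigenspaces are small
  obtain ⟨l, hl3, hl⟩ : ∃ l : F, l ^ 3 = 1 ∧ 3 ≤ Module.finrank F (E l) := by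
    by_contra hcon
    push Not at hcon
    refine hW2 (eq_of_act fun x => ?_)
    have hsm : ∀ l, l ^ 3 = 1 → ∀ y ∈ E l, act W (act W y) = y := by
      intro l hl y hy
      let N0 : (Fin 4 → F) →ₗ[F] (Fin 4 → F) := Matrix.mulVecLin (mat W) + LinearMap.id
      have hN0 : ∀ u, N0 u = act W u + u := fun u => rfl
      let N : Module.End F (E l) := N0.restrict (p := E l) (q := E l) fun u hu => by
        rw [hN0]
        refine add_mem ?_ hu
        rw [hE] at hu ⊢
        rw [← act_mul, hc.eq, act_mul, hu, act_smul]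
      have hN : ∀ u : E l, ((N u : E l) : Fin 4 → F) = act W u + u := fun u => rfl
      have hdd : ∀ u : Fin 4 → F, u + u = 0 := fun u => funext fun i => by
        rw [Pi.add_apply, Pi.zero_apply]; linear_combination u i * h2
      have hN2 : ∀ u : E l, ((N (N u) : E l) : Fin 4 → F) = act W (act W u) + u := fun u => by
        rw [hN, hN, act_add, add_add_add_comm, ← add_assoc, add_assoc (act W (act W u)), hdd, add_zero]
      have h4 : (N ^ 4) ⟨y, hy⟩ = 0 := by
        refine Subtype.ext ?_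
        simp only [pow_succ, pow_zero, one_mul, Module.End.mul_apply]
        rw [hN2, hN2, act_add, act_add, ← act_mul, ← act_mul, ← act_mul, ← pow_two, ← pow_succ, ← pow_succ, hW,
          act_one, add_assoc, ← add_assoc (act W (act W _)), hdd, zero_add]
        exact hdd y
      have h5 := Module.End.ker_pow_le_ker_pow_finrank N 4 (LinearMap.mem_ker.2 h4)
      have h6 : (N ^ 2) ⟨y, hy⟩ = 0 := by
        have hle : Module.finrank F (E l) ≤ 2 := by have := hcon l hl; omega
        rw [← Nat.sub_add_cancel hle, pow_add, Module.End.mul_apply, LinearMap.mem_ker.1 h5, map_zero]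
      have h7 := congrArg Subtype.val h6
      rw [pow_two, Module.End.mul_apply, hN2] at h7
      exact (eq_neg_of_add_eq_zero_left h7).trans (eq_neg_of_add_eq_zero_left (hdd y)).symm
    rw [pow_two, act_mul, act_one]
    conv_lhs => rw [hsum x, act_add, act_add, act_add, act_add, hsm 1 (one_pow 3) _ (hP 1 x (one_pow 3)),
      hsm w hw3 _ (hP w x hw3), hsm (w + 1) hw1 _ (hP (w + 1) x hw1), ← hsum x]
  have hl0 : l ≠ 0 := fun h => by simp [h] at hl3
  obtain ⟨x, hx⟩ : ∃ x, act z x ≠ l • x := by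
    by_contra hall
    push Not at hall
    have hm : mat z = l • (1 : Matrix (Fin 4) (Fin 4) F) := Matrix.ext_of_mulVec_single fun i => by
      rw [Matrix.smul_mulVec, Matrix.one_mulVec]; exact hall _
    have hd : (mat z).det = 1 := (z : SpecialLinearGroup (Fin 4) F).2
    rw [hm, det_smul, det_one, mul_one, Fintype.card_fin] at hd
    have hl1 : l = 1 := by linear_combination hd - l * hl3
    exact hz1 (mat_ext (by rw [hm, hl1, one_smul, mat_one]))
  obtain ⟨μ, hμl, hμ, hv0⟩ : ∃ μ, μ ≠ l ∧ μ ^ 3 = 1 ∧ P μ x ≠ 0 := by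
    by_contra hcon
    push Not at hcon
    refine hx ((hE l x).1 ?_)
    have : ∀ m, m ^ 3 = 1 → P m x ∈ E l := fun m hm => by
      rcases eq_or_ne m l with rfl | hne
      · exact hP m x hm
      · rw [hcon m hne hm]; exact zero_mem _
    rw [hsum x]
    exact add_mem (add_mem (this 1 (one_pow 3)) (this w hw3)) (this _ hw1)
  set v := P μ x with hv
  have hzv : act z v = μ • v := (hE μ v).1 (hP μ x hμ)
  have hvE : v ∉ E l := fun h => by
    rw [hE, hzv] at h
    exact hμl (smul_left_injective F hv0 h)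
  have horth : ∀ a ∈ E l, ⟪a, v⟫ = 0 := fun a ha => by
    rw [hE] at ha
    have h := act_herm z a v
    rw [ha, hzv, herm_smull hF, herm_smulr hF, qConj_apply hF, ← mul_assoc] at h
    by_contra h0
    have h1 : l * μ ^ 2 = 1 := mul_right_cancel₀ h0 (by rw [one_mul]; exact h)
    exact hμl (by linear_combination l * hμ - μ * h1)
  have htop : E l ⊔ Submodule.span F {v} = ⊤ := by
    have hlt : E l < E l ⊔ Submodule.span F {v} := lt_of_le_of_ne le_sup_left fun h => hvE
      (h ▸ Submodule.mem_sup_right (Submodule.mem_span_singleton_self v))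
    have h1 := Submodule.finrank_lt_finrank_of_lt hlt
    have h2' := Submodule.finrank_le (E l ⊔ Submodule.span F {v})
    refine Submodule.eq_top_of_finrank_eq ?_
    rw [Module.finrank_fin_fun] at h2' ⊢
    omega
  have hdec : ∀ y, ∃ a ∈ E l, ∃ c : F, y = a + c • v := fun y => by
    obtain ⟨a, ha, b, hb, rfl⟩ := Submodule.mem_sup.1 (htop.symm ▸ Submodule.mem_top : y ∈ E l ⊔ Submodule.span F {v})
    obtain ⟨c, rfl⟩ := Submodule.mem_span_singleton.1 hb
    exact ⟨a, ha, c, rfl⟩
  have hvv : ⟪v, v⟫ = 1 := herm_one_of_ne hF fun h0 => hv0 (funext fun i => by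
    obtain ⟨a, ha, c, hy⟩ := hdec (e_[i])
    rw [← herm_single v i, hy, herm_addr hF, herm_smulr hF, herm_orth_comm hF (horth a ha), h0, mul_zero,
      add_zero]
    rfl)
  refine ⟨l, μ, v, hμl.symm, hvv, hzv, fun y hy => ?_⟩
  obtain ⟨a, ha, c, rfl⟩ := hdec y
  rw [herm_addl hF, herm_smull hF, horth a ha, hvv, zero_add, mul_one] at hy
  rw [hy, zero_smul, add_zero]
  exact (hE l a).1 ha

omit hF in
/-- `v` is the axis of `z`: fixed, with `z` a nontrivial scalar on its orthogonal complement. -/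
def Axis {n : ℕ} (z : Cfsg.SU n F 2) (v : Fin n → F) : Prop :=
  ⟪v, v⟫ = 1 ∧ act z v = v ∧ ∃ l : F, l ≠ 1 ∧ ∀ x, ⟪x, v⟫ = 0 → act z x = l • x

theorem exists_axis {z W : Cfsg.SU 4 F 2} (hz : z ^ 3 = 1) (hz1 : z ≠ 1) (hc : Commute z W)
    (hW : W ^ 4 = 1) (hW2 : W ^ 2 ≠ 1) : ∃ v, Axis z v := by
  obtain ⟨l, μ, v, hne, hvv, hzv, hl⟩ := exists_axis_aux hF hz hz1 hc hW hW2
  obtain ⟨h, hh⟩ := su_trans hF (by norm_num : 3 ≤ 4) (x := e_[(3 : Fin 4)]) (y := v) (by simp)
    (fun e => by rw [e] at hvv; simp [Cfsg.hermForm] at hvv)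
    (by rw [CfsgLib.Pres.SUn.herm_unit hF, hvv])
  have hd : ∀ i, act (h⁻¹ * z * h) (e_[i]) = (![l, l, l, μ] i) • e_[i] := fun i => by
    rw [act_mul, act_mul]
    by_cases hi : i = 3
    · subst hi
      rw [hh, hzv, act_smul, ← hh, act_inv_act]; rfl
    · rw [hl _ (by rw [← hh, act_herm, herm_single, Pi.single_eq_of_ne (Ne.symm hi)]), act_smul, act_inv_act]
      congr 1
      fin_cases i <;> first | rfl | exact absurd rfl hi
  have hm : mat (h⁻¹ * z * h) = Matrix.diagonal ![l, l, l, μ] := Matrix.ext_of_mulVec_single fun i => by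
    refine (hd i).trans (funext fun j => ?_)
    rw [Matrix.mulVec_single_one]
    rcases eq_or_ne j i with rfl | hji
    · simp
    · simp [Pi.single_eq_of_ne hji, Matrix.diagonal_apply_ne _ hji]
  have hdet : (mat (h⁻¹ * z * h)).det = 1 := ((h⁻¹ * z * h : Cfsg.SU 4 F 2) : SpecialLinearGroup (Fin 4) F).2
  rw [hm, det_diagonal, Fin.prod_univ_four] at hdet
  simp at hdet
  have hl0 : l ≠ 0 := fun e => by simp [e] at hdet
  have hμ : μ = 1 := by linear_combination hdet - μ * cube_one hF hl0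
  subst hμ
  exact ⟨v, hvv, by rw [hzv, one_smul], l, hne, hl⟩

theorem axis_conj {n : ℕ} {z : Cfsg.SU n F 2} {v v' : Fin n → F} (hz : Axis z v) {h : Cfsg.SU n F 2}
    (hv : act h v = v') : Axis (h * z * h⁻¹) v' := by
  obtain ⟨h1, h2, l, hl, h3⟩ := hz
  refine ⟨by rw [← hv, act_herm, h1], by rw [act_mul, act_mul, ← hv, act_inv_act, h2], l, hl, fun x hx => ?_⟩
  rw [act_mul, act_mul, h3 _ (by rw [← act_herm h, act_act_inv, hv, hx]), act_smul, act_act_inv]

theorem axis_sq {n : ℕ} {z : Cfsg.SU n F 2} {v : Fin n → F} (hz : Axis z v) : Axis (z * z) v := by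
  obtain ⟨h1, h2, l, hl, h3⟩ := hz
  exact ⟨h1, by rw [act_mul, h2, h2], l ^ 2, sq_ne_one hF hl, fun x hx => by
    rw [act_mul, h3 x hx, act_smul, h3 x hx, smul_smul, sq]⟩

theorem axis_fixed {n : ℕ} {z : Cfsg.SU n F 2} {v x : Fin n → F} (hz : Axis z v) (hx : act z x = x) :
    x = ⟪x, v⟫ • v := by
  obtain ⟨h1, h2, l, hl, h3⟩ := hz
  set c := ⟪x, v⟫ with hc
  have e : ⟪x - c • v, v⟫ = 0 := by rw [herm_subl hF, herm_smull hF, h1, mul_one, ← hc, sub_self]
  have e2 := h3 _ e
  rw [sub_eq_add_neg, act_add, hx, ← neg_smul, act_smul, h2] at e2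
  have e3 : (l - 1) • (x + -c • v) = 0 := by rw [sub_smul, one_smul, ← e2, sub_self]
  rcases smul_eq_zero.1 e3 with h | h
  · exact absurd (sub_eq_zero.1 h) hl
  · rw [neg_smul] at h; exact eq_of_sub_eq_zero (by rw [sub_eq_add_neg]; exact h)

/-- On the coordinate axis `j`. -/
theorem axis_single {n : ℕ} {z : Cfsg.SU n F 2} {j : Fin n} (hz : Axis z (e_[j])) :
    ∃ l : F, l ≠ 1 ∧ act z (e_[j]) = e_[j] ∧ ∀ i, i ≠ j → act z (e_[i]) = l • e_[i] := by
  obtain ⟨-, h2, l, hl, h3⟩ := hz
  exact ⟨l, hl, h2, fun i hi => h3 _ (by rw [herm_single, Pi.single_eq_of_ne (Ne.symm hi)])⟩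

theorem exists_axis_zc {f : Cfsg.SU 3 F 2 →* Cfsg.SU 4 F 2} (hf : Function.Injective f) {c : Fˣ}
    (hc : c ≠ 1) : ∃ v, Axis (f (zc hF c)) v := by
  obtain ⟨w, hw⟩ := exists_omega hF
  obtain ⟨h, hh⟩ := exists_hM hF hw (one_ne_zero (α := F))
  have h4 := hM_pow_four hF hw one_ne_zero hh
  refine exists_axis hF (W := f h) ?_ ?_ ((zc_comm hF c h).map f) (by rw [← map_pow, h4, map_one]) ?_
  · rw [← map_pow, pow_succ, sq, zc_mul, zc_mul, ← sq, ← pow_succ,
      show c ^ 3 = 1 from Units.ext (by rw [Units.val_pow_eq_pow_val, cube_one hF c.ne_zero, Units.val_one]),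
      zc_one, map_one]
  · rw [← map_one f]; exact fun e => hc (zc_eq_one hF (hf e))
  · rw [← map_pow, ← map_one f]
    intro e
    have := congrFun (congrFun (congrArg mat (hf e)) 1) 2
    rw [sq, mat_mul, hh, mat_one] at this
    have h2 := two_zero hF
    simp [hMat, Matrix.mul_apply, Fin.sum_univ_three] at this
    grind

theorem axis_zc {n : ℕ} {f : Cfsg.SU 3 F 2 →* Cfsg.SU n F 2} {c d : Fˣ} (hc : c ≠ 1) (hd : d ≠ 1)
    {v : Fin n → F} (hv : Axis (f (zc hF c)) v) : Axis (f (zc hF d)) v := by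
  rcases units_cases hF hc hd with rfl | rfl
  · exact hv
  · have : zc hF c⁻¹ = zc hF c * zc hF c := by
      rw [zc_mul]; congr 1
      refine (eq_inv_of_mul_eq_one_right (Units.ext ?_)).symm
      push_cast; linear_combination cube_one hF c.ne_zero
    rw [this, map_mul]; exact axis_sq hF hv

omit hF in
theorem exists_enum_card {n k : ℕ} (T : Finset (Fin n)) (hT : T.card = k) :
    ∃ f : Fin k ↪ Fin n, Finset.univ.map f = T := ⟨(T.orderEmbOfFin hT).toEmbedding, by simp⟩

/-- An injective image of `SU_k` inside a block of size `k` is the block. -/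
theorem range_eq_of_le {n k : ℕ} {f : Cfsg.SU k F 2 →* Cfsg.SU n F 2} (hf : Function.Injective f)
    {T : Finset (Fin n)} (hT : T.card = k) (hle : f.range ≤ SOn T) : f.range = SOn T := by
  obtain ⟨e, he⟩ := exists_enum_card T hT
  refine Subgroup.eq_of_le_of_card_ge hle ?_
  rw [← he, ← range_blk two_ne_zero e, ← Nat.card_congr (MonoidHom.ofInjective hf).toEquiv,
    ← Nat.card_congr (MonoidHom.ofInjective (blk_injective (F := F) (q := 2) e)).toEquiv]

/-- The copy of `SU₃(2)` belonging to an axis is the coordinate block. -/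
theorem range_of_axis {f : Cfsg.SU 3 F 2 →* Cfsg.SU 4 F 2} (hf : Function.Injective f) {c : Fˣ}
    {j : Fin 4} (hv : Axis (f (zc hF c)) (e_[j])) : f.range = SOn (Finset.univ.erase j) := by
  classical
  have key : ∀ x, act (f x) (e_[j]) = (act (f x) (e_[j]) j) • e_[j] := fun x => by
    have hfix : act (f (zc hF c)) (act (f x) (e_[j])) = act (f x) (e_[j]) := by
      rw [← act_mul, ((zc_comm hF c x).map f).eq, act_mul, hv.2.1]
    have := axis_fixed hF hv hfix
    rwa [herm_single] at this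
  let s : Cfsg.SU 3 F 2 → F := fun x => act (f x) (e_[j]) j
  have hs0 : ∀ x, s x ≠ 0 := fun x h => by
    have h1 := key x
    rw [show act (f x) (e_[j]) j = 0 from h, zero_smul] at h1
    have h2 := act_inj (f x) (h1.trans (show (0 : Fin 4 → F) = act (f x) 0 from (mulVec_zero _).symm))
    simpa using congrFun h2 j
  let χ : Cfsg.SU 3 F 2 →* Fˣ := MonoidHom.mk' (fun x => Units.mk0 (s x) (hs0 x)) fun x y => Units.ext (by
    show act (f (x * y)) (e_[j]) j = act (f x) (e_[j]) j * act (f y) (e_[j]) j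
    rw [map_mul, act_mul]
    conv_lhs => rw [key y, act_smul, Pi.smul_apply, smul_eq_mul, mul_comm])
  have hχ := hom_trivial hF (T := Fˣ) (fun t => Units.ext (by push_cast; exact cube_one hF t.ne_zero)) χ
  refine range_eq_of_le hF hf (by simp) ?_
  rintro _ ⟨x, rfl⟩ i hi
  obtain rfl : i = j := by simpa using hi
  have h1 : s x = 1 := congrArg Units.val (DFunLike.congr_fun hχ x)
  rw [key x, show act (f x) (e_[i]) i = 1 from h1, one_smul]

/-- A copy of `SU₂(2)` whose torus fixes a coordinate vector fixes it. -/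
theorem block_of_fix {h : Cfsg.SU 2 F 2 →* Cfsg.SU 4 F 2} (hh : Function.Injective h) {i j : Fin 4}
    (hij : i ≠ j) (hle : h.range ≤ SOn (Finset.univ.erase j)) {c : Fˣ} (hc : c ≠ 1)
    (hi : act (h (tor hF c)) (e_[i]) = e_[i])
    (hk : ∀ m, m ≠ i → m ≠ j → ∃ k : F, k ≠ 1 ∧ act (h (tor hF c)) (e_[m]) = k • e_[m]) :
    h.range = SOn ((Finset.univ.erase j).erase i) := by
  classical
  have hj : ∀ x, act (h x) (e_[j]) = e_[j] := fun x => hle ⟨x, rfl⟩ j (by simp)
  have hpow : ∀ c' : Fˣ, act (h (tor hF c')) (e_[i]) = e_[i] := fun c' => by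
    rcases eq_or_ne c' 1 with rfl | hc'
    · rw [tor_one, map_one, act_one]
    rcases units_cases hF hc hc' with rfl | rfl
    · exact hi
    · conv_lhs => rw [← hi, ← act_mul, ← map_mul, tor_mul, inv_mul_cancel, tor_one, map_one, act_one]
  set y := act (h (sw hF)) (e_[i]) with hy
  have hdy : act (h (tor hF c)) y = y := by
    have e : tor hF c * sw hF = sw hF * tor hF c⁻¹ := by rw [sw_tor, inv_inv]
    rw [hy, ← act_mul, ← map_mul, e, map_mul, act_mul, hpow]
  have hy0 : ∀ m, m ≠ i → y m = 0 := fun m hm => by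
    rcases eq_or_ne m j with rfl | hmj
    · rw [hy, act_apply_out two_ne_zero (hle ⟨sw hF, rfl⟩) _ (by simp), Pi.single_eq_of_ne hm]
    obtain ⟨k, hk1, hkm⟩ := hk m hm hmj
    have e := act_herm (h (tor hF c)) y (e_[m])
    rw [hdy, hkm, herm_smulr hF, herm_single, qConj_apply hF] at e
    by_contra h0
    exact sq_ne_one hF hk1 (mul_right_cancel₀ h0 (by rw [one_mul]; exact e))
  have hye : y = y i • e_[i] := funext fun m => by
    rcases eq_or_ne m i with rfl | hm
    · simp
    · simp [hy0 m hm, Pi.single_eq_of_ne hm]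
  have hyi : y i = 1 := by
    have e : act (h (sw hF)) y = e_[i] := by rw [hy, ← act_mul, ← map_mul, sw_sq, map_one, act_one]
    rw [hye, act_smul, ← hy, hye, smul_smul] at e
    have e' : y i * y i = 1 := by simpa using congrFun e i
    by_contra h1
    exact sq_ne_one hF h1 (by rw [sq]; exact e')
  refine range_eq_of_le hF hh (by simp [hij]) ?_
  rintro _ ⟨x, rfl⟩ m hm
  rcases eq_or_ne m j with rfl | hmj
  · exact hj x
  obtain rfl : m = i := by simpa [hmj] using hm
  have hswi : act (h (sw hF)) (e_[m]) = e_[m] := by rw [← hy, hye, hyi, one_smul]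
  obtain ⟨c', rfl | rfl⟩ := su2_cases hF x
  · exact hpow c'
  · rw [map_mul, act_mul, hswi, hpow]

end CfsgLib.Recog.Phan.Two
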