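import Cfsg.Agent.Lib.Recog.Phan.Normalise
import Cfsg.Agent.Lib.Pres.SUGen

/-!
`SU₃(2)`: torus and swap elements, the monomial subgroup generated by the two blocks, and three
further elements of order four completing it to the whole group.
-/

set_option autoImplicit false
set_option linter.unusedSectionVars false

namespace CfsgLib.Recog.Phan.Two

open Matrix CfsgLib.MaxSub CfsgLib.Recog.Phan CfsgLib.Recog.Phan.Norm
open CfsgLib.Pres.SUn (act SOn range_blk act_mul act_one act_inv_act act_smul act_herm)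

universe u
variable {F : Type u} [Field F] [Fintype F] (hF : Fintype.card F = 2 ^ 2)

include hF

theorem two_zero : (2 : F) = 0 := by
  have h := FiniteField.cast_card_eq_zero F
  rw [hF] at h
  push_cast at h
  exact mul_self_eq_zero.1 (by linear_combination h)

theorem cube_one {x : F} (hx : x ≠ 0) : x ^ 3 = 1 := by
  have h := FiniteField.pow_card_sub_one_eq_one x hx
  rwa [hF] at h

theorem sq_inv {x : F} : x ^ 2 = x⁻¹ := by
  rcases eq_or_ne x 0 with rfl | hx
  · simp
  · exact eq_inv_of_mul_eq_one_left (by rw [← pow_succ, cube_one hF hx])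

theorem qConj_inv (x : F) : qConj hF x = x⁻¹ := by rw [qConj_apply hF, sq_inv hF]

theorem exists_omega : ∃ w : F, w * w = w + 1 := by
  classical
  obtain ⟨w, -, hw⟩ := Finset.exists_mem_notMem_of_card_lt_card
    (s := ({0, 1} : Finset F)) (t := Finset.univ) (by
      rw [Finset.card_univ, hF]; exact lt_of_le_of_lt Finset.card_le_two (by norm_num))
  simp only [Finset.mem_insert, Finset.mem_singleton, not_or] at hw
  refine ⟨w, ?_⟩
  have h3 : (w - 1) * (w * w + w + 1) = 0 := by linear_combination cube_one hF hw.1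
  have h := (mul_eq_zero.1 h3).resolve_left (sub_ne_zero.2 hw.2)
  linear_combination h - (w + 1) * two_zero hF

theorem cases_of_ne {w : F} (hw : w * w = w + 1) {x : F} (hx : x ≠ 0) : x = 1 ∨ x = w ∨ x = w + 1 := by
  have h3 : (x - 1) * ((x - w) * (x - (w + 1))) = 0 := by
    linear_combination cube_one hF hx + (x - 1) * hw + (x - 1) * (w - w * x - x) * two_zero hF
  rcases mul_eq_zero.1 h3 with h | h
  · exact Or.inl (sub_eq_zero.1 h)
  rcases mul_eq_zero.1 h with h | h
  · exact Or.inr (Or.inl (sub_eq_zero.1 h))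
  · exact Or.inr (Or.inr (sub_eq_zero.1 h))

theorem omega_ne {w : F} (hw : w * w = w + 1) : w ≠ 0 ∧ w ≠ 1 := by
  constructor
  · rintro rfl; simp at hw
  · rintro rfl; simp at hw

theorem herm_self {n : ℕ} (v : Fin n → F) : Cfsg.hermForm n F 2 v v = ∑ i, v i ^ 3 := by
  simp only [Cfsg.hermForm]
  exact Finset.sum_congr rfl fun i _ => by ring

/-- The torus element. -/
noncomputable def tor (c : Fˣ) : Cfsg.SU 2 F 2 :=
  ⟨⟨!![(c : F), 0; 0, (c : F)⁻¹], by simp⟩, mem_su_of_mat hF _ (by
    show (!![(c : F), 0; 0, (c : F)⁻¹] : Matrix (Fin 2) (Fin 2) F)ᵀ *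
      (!![(c : F), 0; 0, (c : F)⁻¹] : Matrix _ _ F).map (qConj hF) = 1
    ext i j; fin_cases i <;> fin_cases j <;> simp [Matrix.mul_apply, Fin.sum_univ_two, qConj_inv hF])⟩

/-- The swap. -/
noncomputable def sw : Cfsg.SU 2 F 2 :=
  ⟨⟨!![0, 1; 1, 0], by
    rw [det_fin_two_of]; linear_combination (-1 : F) * two_zero hF⟩, mem_su_of_mat hF _ (by
    show (!![0, 1; 1, 0] : Matrix (Fin 2) (Fin 2) F)ᵀ * (!![0, 1; 1, 0] : Matrix _ _ F).map (qConj hF) = 1
    ext i j; fin_cases i <;> fin_cases j <;> simp [Matrix.mul_apply, Fin.sum_univ_two])⟩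

theorem mat_tor (c : Fˣ) : mat (tor hF c) = !![(c : F), 0; 0, (c : F)⁻¹] := rfl

theorem mat_sw : mat (sw hF) = !![0, 1; 1, 0] := rfl

theorem tor_mul (c d : Fˣ) : tor hF c * tor hF d = tor hF (c * d) := mat_ext (by
  rw [mat_mul, mat_tor, mat_tor, mat_tor]
  ext i j; fin_cases i <;> fin_cases j <;> simp [Matrix.mul_apply, Fin.sum_univ_two, mul_comm])

theorem tor_one : tor hF 1 = 1 := mat_ext (by
  rw [mat_tor, mat_one]; ext i j; fin_cases i <;> fin_cases j <;> simp)

theorem sw_sq : sw hF * sw hF = 1 := mat_ext (by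
  rw [mat_mul, mat_sw, mat_one]
  ext i j; fin_cases i <;> fin_cases j <;> simp [Matrix.mul_apply, Fin.sum_univ_two])

/-- The six elements. -/
theorem su2_cases (x : Cfsg.SU 2 F 2) : ∃ c : Fˣ, x = tor hF c ∨ x = tor hF c * sw hF := by
  obtain ⟨s1, s2⟩ := su_two_shape hF x
  have hd : mat x 0 0 * mat x 1 1 - mat x 0 1 * mat x 1 0 = 1 := by
    rw [← det_fin_two]; exact (x : SpecialLinearGroup (Fin 2) F).2
  rw [s1, s2, qConj_inv hF, qConj_inv hF] at hd
  by_cases h0 : mat x 0 0 = 0
  · have h1 : mat x 0 1 ≠ 0 := fun h => by simp [h0, h] at hd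
    refine ⟨Units.mk0 _ h1, Or.inr (mat_ext ?_)⟩
    have h2 := two_zero hF
    rw [mat_mul, mat_tor, mat_sw]
    ext i j; fin_cases i <;> fin_cases j <;>
      simp [Matrix.mul_apply, Fin.sum_univ_two, s1, s2, qConj_inv hF, h0] <;> grind
  · have h1 : mat x 0 1 = 0 := by
      by_contra h1
      rw [mul_inv_cancel₀ h0, mul_neg, sub_neg_eq_add, mul_inv_cancel₀ h1] at hd
      exact one_ne_zero ((by linear_combination hd : (1 : F) = 0))
    refine ⟨Units.mk0 _ h0, Or.inl (mat_ext ?_)⟩
    rw [mat_tor]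
    ext i j; fin_cases i <;> fin_cases j <;> simp [s1, s2, qConj_inv hF, h1]

omit [Fintype F] hF in
theorem act_mat {n : ℕ} (g : Cfsg.SU n F 2) (v : Fin n → F) : act g v = mat g *ᵥ v := rfl

theorem act_left (x : Cfsg.SU 2 F 2) (v : Fin 3 → F) :
    act (left2 x) v = ![mat x 0 0 * v 0 + mat x 0 1 * v 1, mat x 1 0 * v 0 + mat x 1 1 * v 1, v 2] := by
  rw [act_mat, mat_left2]
  funext i; fin_cases i <;> simp [Matrix.mulVec, dotProduct, Fin.sum_univ_three]

theorem act_right (x : Cfsg.SU 2 F 2) (v : Fin 3 → F) :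
    act (right2 x) v = ![v 0, mat x 0 0 * v 1 + mat x 0 1 * v 2, mat x 1 0 * v 1 + mat x 1 1 * v 2] := by
  rw [act_mat, mat_right2]
  funext i; fin_cases i <;> simp [Matrix.mulVec, dotProduct, Fin.sum_univ_three]

omit hF in
variable (F) in
/-- The subgroup generated by the two blocks. -/
noncomputable def N3 : Subgroup (Cfsg.SU 3 F 2) :=
  (left2 (F := F) (q := 2)).range ⊔ (right2 (F := F) (q := 2)).range

theorem left_mem (x : Cfsg.SU 2 F 2) : left2 x ∈ N3 F := Subgroup.mem_sup_left ⟨x, rfl⟩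

theorem right_mem (x : Cfsg.SU 2 F 2) : right2 x ∈ N3 F := Subgroup.mem_sup_right ⟨x, rfl⟩

theorem mem_of_fix {g : Cfsg.SU 3 F 2} (h : act g (Pi.single 0 1) = Pi.single 0 1) : g ∈ N3 F := by
  refine Subgroup.mem_sup_right ?_
  show g ∈ (CfsgLib.Pres.SUn.blk (iv 1 (by omega : 1 + 2 ≤ 3))).range
  rw [range_blk two_ne_zero]
  intro i hi
  fin_cases i
  · exact h
  · exact absurd (Finset.mem_map.2 ⟨0, Finset.mem_univ _, rfl⟩) hi
  · exact absurd (Finset.mem_map.2 ⟨1, Finset.mem_univ _, rfl⟩) hi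

/-- Monomial elements lie in the block subgroup. -/
theorem mem_of_single {g : Cfsg.SU 3 F 2} {i : Fin 3} {c : F}
    (h : act g (Pi.single 0 1) = c • Pi.single i 1) : g ∈ N3 F := by
  have hc : c ≠ 0 := by
    rintro rfl
    rw [zero_smul] at h
    have h' := CfsgLib.Pres.SUn.act_inj g (h.trans (show (0 : Fin 3 → F) = act g 0 from (mulVec_zero _).symm))
    simpa using congrFun h' 0
  suffices key : ∀ g : Cfsg.SU 3 F 2, act g (Pi.single 0 1) = c • Pi.single 0 1 → g ∈ N3 F by
    fin_cases i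
    · exact key g h
    · refine (Subgroup.mul_mem_cancel_left _ (left_mem hF (sw hF))).1 (key _ ?_)
      rw [act_mul, h, act_smul, act_left hF, mat_sw]
      congr 1
      funext j; fin_cases j <;> simp
    · refine (Subgroup.mul_mem_cancel_left _
        (mul_mem (left_mem hF (sw hF)) (right_mem hF (sw hF)))).1 (key _ ?_)
      rw [act_mul, h, act_smul, act_mul, act_right hF, act_left hF, mat_sw]
      congr 1
      funext j; fin_cases j <;> simp
  intro g hg
  refine (Subgroup.mul_mem_cancel_left _ (left_mem hF (tor hF (Units.mk0 c hc)⁻¹))).1 (mem_of_fix hF ?_)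
  rw [act_mul, hg, act_left hF, mat_tor]
  funext j; fin_cases j <;> simp [hc]

/-- The elements of order four. -/
noncomputable def hMat (w a : F) : Matrix (Fin 3) (Fin 3) F :=
  !![1, a, a; a ^ 2, w, w + 1; a ^ 2, w + 1, w]

theorem exists_hM {w a : F} (hw : w * w = w + 1) (ha : a ≠ 0) :
    ∃ h : Cfsg.SU 3 F 2, mat h = hMat w a := by
  have h2 := two_zero hF
  have ha3 := cube_one hF ha
  have hσw : qConj hF w = w + 1 := by rw [qConj_apply hF, sq, hw]
  have hσw1 : qConj hF (w + 1) = w := by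
    rw [qConj_apply hF]; linear_combination hw + (w + 1) * h2
  have hσa : qConj hF a = a ^ 2 := qConj_apply hF a
  have hσa2 : qConj hF (a ^ 2) = a := by
    rw [qConj_apply hF]; linear_combination a * ha3
  refine ⟨⟨⟨hMat w a, ?_⟩, mem_su_of_mat hF _ ?_⟩, rfl⟩
  · rw [det_fin_three]
    simp [hMat]
    grind
  · show (hMat w a)ᵀ * (hMat w a).map (qConj hF) = 1
    ext i j; fin_cases i <;> fin_cases j <;>
      simp [hMat, Matrix.mul_apply, Fin.sum_univ_three, hσw, hσw1, hσa, hσa2] <;>
      grind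

theorem hM_pow_four {w a : F} (hw : w * w = w + 1) (ha : a ≠ 0) {h : Cfsg.SU 3 F 2}
    (hh : mat h = hMat w a) : h ^ 4 = 1 := by
  have h2 := two_zero hF
  have ha3 := cube_one hF ha
  have e : mat (h * h) = !![1, 0, 0; 0, 0, 1; 0, 1, 0] := by
    rw [mat_mul, hh]
    ext i j; fin_cases i <;> fin_cases j <;>
      simp [hMat, Matrix.mul_apply, Fin.sum_univ_three] <;> grind
  refine mat_ext ?_
  rw [show h ^ 4 = h * h * (h * h) by rw [pow_succ, pow_succ, pow_succ, pow_one, mul_assoc (h * h)], mat_mul, e, mat_one]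
  ext i j; fin_cases i <;> fin_cases j <;> simp [Matrix.mul_apply, Fin.sum_univ_three]

/-- A vector with two zero coordinates is a multiple of a basis vector. -/
theorem single_of_zero {v : Fin 3 → F} (h : (v 0 = 0 ∧ v 1 = 0) ∨ (v 0 = 0 ∧ v 2 = 0) ∨ (v 1 = 0 ∧ v 2 = 0)) :
    ∃ (i : Fin 3) (c : F), v = c • Pi.single i 1 := by
  rcases h with ⟨h1, h2⟩ | ⟨h1, h2⟩ | ⟨h1, h2⟩
  · exact ⟨2, v 2, funext fun j => by fin_cases j <;> simp [h1, h2]⟩
  · exact ⟨1, v 1, funext fun j => by fin_cases j <;> simp [h1, h2]⟩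
  · exact ⟨0, v 0, funext fun j => by fin_cases j <;> simp [h1, h2]⟩

/-- The elements of order four normalise the generators into the block subgroup. -/
theorem hM_conj {w a : F} (hw : w * w = w + 1) (ha : a ≠ 0) {h : Cfsg.SU 3 F 2}
    (hh : mat h = hMat w a) {x : Cfsg.SU 3 F 2}
    (hx : x = left2 (tor hF (Units.mk0 w (omega_ne hF hw).1)) ∨ x = left2 (sw hF) ∨
      x = right2 (tor hF (Units.mk0 w (omega_ne hF hw).1)) ∨ x = right2 (sw hF)) :
    h * x * h⁻¹ ∈ N3 F := by
  have h2 := two_zero hF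
  have hwi : w⁻¹ = w + 1 := (eq_inv_of_mul_eq_one_right (by linear_combination hw + w * h2)).symm
  have hu : act h⁻¹ (Pi.single 0 1) = ![1, a ^ 2, a ^ 2] := by
    refine CfsgLib.Pres.SUn.act_inj h ?_
    rw [CfsgLib.Pres.SUn.act_act_inv, act_mat, hh]
    funext i; fin_cases i <;> simp [hMat, Matrix.mulVec, dotProduct, Fin.sum_univ_three] <;>
      (have ha3 := cube_one hF ha; grind)
  obtain ⟨i, c, hc⟩ : ∃ (i : Fin 3) (c : F), act (h * x * h⁻¹) (Pi.single 0 1) = c • Pi.single i 1 := by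
    rw [act_mul, act_mul, hu]
    refine single_of_zero hF ?_
    rcases hx with rfl | rfl | rfl | rfl <;>
      simp only [act_left hF, act_right hF, mat_tor, mat_sw] <;> rw [act_mat, hh] <;>
      simp [hMat, Matrix.mulVec, dotProduct, Fin.sum_univ_three, hwi] <;>
      rcases cases_of_ne hF hw ha with rfl | rfl | rfl <;> grind
  exact mem_of_single hF hc

/-- The blocks and the elements of order four generate `SU₃(2)`. -/
theorem gen {w : F} (hw : w * w = w + 1) (S : Subgroup (Cfsg.SU 3 F 2)) (hN : N3 F ≤ S)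
    (hh : ∀ (a : F), a ≠ 0 → ∀ h : Cfsg.SU 3 F 2, mat h = hMat w a → h ∈ S) : S = ⊤ := by
  classical
  refine eq_top_iff.2 fun g _ => ?_
  set v := act g (Pi.single 0 1) with hv
  have hvv : Cfsg.hermForm 3 F 2 v v = 1 := by
    rw [hv, act_herm]; exact CfsgLib.Pres.SUn.herm_unit hF 0
  by_cases hall : ∀ i, v i ≠ 0
  swap
  · obtain ⟨i, c, hc⟩ : ∃ (i : Fin 3) (c : F), v = c • Pi.single i 1 := by
      refine single_of_zero hF ?_
      push Not at hall
      obtain ⟨i, hi⟩ := hall
      rw [herm_self hF, Fin.sum_univ_three] at hvv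
      have hc : ∀ x : F, x = 0 ∨ x ^ 3 = 1 := fun x => or_iff_not_imp_left.2 (cube_one hF)
      have h2 := two_zero hF
      rcases hc (v 0) with h0 | h0 <;> rcases hc (v 1) with h1 | h1 <;> rcases hc (v 2) with h3 | h3 <;>
        first
          | exact Or.inl ⟨h0, h1⟩
          | exact Or.inr (Or.inl ⟨h0, h3⟩)
          | exact Or.inr (Or.inr ⟨h1, h3⟩)
          | (exfalso; fin_cases i <;> simp at hi <;> simp_all <;> grind)
    exact hN (mem_of_single hF hc)
  · -- normal form with all coordinates nonzero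
    set p := v 0 * v 1 * v 2 with hp
    have hp0 : p ≠ 0 := mul_ne_zero (mul_ne_zero (hall 0) (hall 1)) (hall 2)
    obtain ⟨h, hhm⟩ := exists_hM hF hw hp0
    let D : Cfsg.SU 3 F 2 := left2 (tor hF (Units.mk0 _ (hall 0))) *
      right2 (tor hF (Units.mk0 _ (mul_ne_zero (mul_ne_zero (hall 0) (hall 1)) hp0)))
    have hD : D ∈ N3 F := mul_mem (left_mem hF _) (right_mem hF _)
    have he : act (D * h) (Pi.single 0 1) = v := by
      have h0 : act h (Pi.single 0 1) = ![1, p ^ 2, p ^ 2] := by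
        rw [act_mat, hhm]; funext j; fin_cases j <;> simp [hMat]
      rw [act_mul, h0]
      simp only [D, act_mul, act_right hF, act_left hF, mat_tor]
      have hp3 := cube_one hF hp0
      funext j; fin_cases j <;> simp
      all_goals
        field_simp
        first
          | linear_combination (v 1) * hp3
          | linear_combination (-1 : F) * hp + p * (v 0)⁻¹ * 0
          | grind
    have : (D * h)⁻¹ * g ∈ N3 F := mem_of_fix hF (by rw [act_mul, ← hv, ← he, act_inv_act])
    exact (Subgroup.mul_mem_cancel_left _ (inv_mem (mul_mem (hN hD) (hh p hp0 h hhm)))).1 (hN this)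

/-- `SU₃(2)` has no nontrivial homomorphism to a group of order three. -/
theorem hom_trivial {T : Type*} [CommGroup T] (h3 : ∀ t : T, t ^ 3 = 1) (χ : Cfsg.SU 3 F 2 →* T) :
    χ = 1 := by
  obtain ⟨w, hw⟩ := exists_omega hF
  have hker : χ.ker = ⊤ := by
    have hone : ∀ t : T, t ^ 2 = 1 → t = 1 := fun t ht => by
      have := h3 t; rwa [pow_succ, ht, one_mul] at this
    have key : ∀ ψ : Cfsg.SU 2 F 2 →* T, ψ = 1 := fun ψ => by
      have hsw : ψ (sw hF) = 1 := hone _ (by rw [sq, ← map_mul, sw_sq, map_one])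
      have htor : ∀ c : Fˣ, ψ (tor hF c) = 1 := fun c => by
        have e : sw hF * tor hF c * sw hF = tor hF c⁻¹ := mat_ext (by
          rw [mat_mul, mat_mul, mat_sw, mat_tor, mat_tor]
          ext i j; fin_cases i <;> fin_cases j <;> simp [Matrix.mul_apply, Fin.sum_univ_two])
        have := congrArg ψ e
        rw [map_mul, map_mul, hsw, one_mul, mul_one] at this
        refine hone _ ?_
        rw [sq]
        nth_rewrite 2 [this]
        rw [← map_mul, tor_mul, mul_inv_cancel, tor_one, map_one]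
      refine MonoidHom.ext fun x => ?_
      obtain ⟨c, rfl | rfl⟩ := su2_cases hF x
      · exact htor c
      · rw [map_mul, htor, hsw, one_mul, MonoidHom.one_apply]
    refine gen hF hw _ (sup_le ?_ ?_) fun a ha h hh => ?_
    · rintro _ ⟨x, rfl⟩
      exact DFunLike.congr_fun (key (χ.comp left2)) x
    · rintro _ ⟨x, rfl⟩
      exact DFunLike.congr_fun (key (χ.comp right2)) x
    · have h4 := congrArg χ (hM_pow_four hF hw ha hh)
      rw [map_pow, map_one] at h4
      rw [pow_succ, h3, one_mul] at h4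
      exact h4
  exact MonoidHom.ext fun x => (hker.symm ▸ Subgroup.mem_top x : x ∈ χ.ker)

end CfsgLib.Recog.Phan.Two
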