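import Cfsg.Agent.Lib.Recog.Phan.Small.TwoAxis
import Cfsg.Agent.Lib.Classical.SUCenter

/-!
# A Phan triple for `q = 2` with envelope a quotient of `SU₄(2)` is the standard one
-/

set_option autoImplicit false
set_option linter.unusedSectionVars false

namespace CfsgLib.Recog.Phan.Two

open Matrix CfsgLib.MaxSub CfsgLib.Recog.Phan CfsgLib.Recog.Phan.Norm
open CfsgLib.Pres.SUn (act SOn blk range_blk act_mul act_one act_inv_act act_smul act_herm act_inj
  eq_of_act act_blk_in act_blk_out act_apply_out herm_single_right su_trans on_trans blk_injective act_act_inv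
  SOn_inf herm_unit)

universe u v
variable {F : Type u} [Field F] [Fintype F] (hF : Fintype.card F = 2 ^ 2)

local notation "⟪" x ", " y "⟫" => Cfsg.hermForm _ F 2 x y
local notation "e_[" i "]" => (Pi.single i (1 : F) : Fin _ → F)
local notation "S4" => Cfsg.SU 4 F 2

/-- The middle two-coordinate block of `SU₄`. -/
noncomputable def mid : Cfsg.SU 2 F 2 →* Cfsg.SU 4 F 2 := emb 1 (by omega : 1 + 2 ≤ 4)

theorem act_mid (x : Cfsg.SU 2 F 2) (v : Fin 4 → F) :
    act (mid x) v = ![v 0, mat x 0 0 * v 1 + mat x 0 1 * v 2, mat x 1 0 * v 1 + mat x 1 1 * v 2, v 3] := by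
  funext i
  fin_cases i
  · exact act_blk_out _ x v (show ¬ ∃ a, iv 1 (by omega : 1 + 2 ≤ 4) a = (0 : Fin 4) by decide)
  · refine (act_blk_in (iv 1 (by omega : 1 + 2 ≤ 4)) x v 0).trans ?_
    simp [act, Matrix.mulVec, dotProduct, Fin.sum_univ_two]
    rfl
  · refine (act_blk_in (iv 1 (by omega : 1 + 2 ≤ 4)) x v 1).trans ?_
    simp [act, Matrix.mulVec, dotProduct, Fin.sum_univ_two]
    rfl
  · exact act_blk_out _ x v (show ¬ ∃ a, iv 1 (by omega : 1 + 2 ≤ 4) a = (3 : Fin 4) by decide)

include hF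

theorem range_emb30 : (emb 0 (by omega : 0 + 3 ≤ 4) : Cfsg.SU 3 F 2 →* S4).range = SOn (Finset.univ.erase 3) := by
  rw [range_blk two_ne_zero]; congr 1

theorem range_emb31 : (emb 1 (by omega : 1 + 3 ≤ 4) : Cfsg.SU 3 F 2 →* S4).range = SOn (Finset.univ.erase 0) := by
  rw [range_blk two_ne_zero]; congr 1

theorem range_emb20 : (emb 0 (by omega : 0 + 2 ≤ 4) : Cfsg.SU 2 F 2 →* S4).range =
    SOn ((Finset.univ.erase 3).erase 2) := by
  rw [range_blk two_ne_zero]; congr 1

theorem range_mid : (mid (F := F)).range = SOn ((Finset.univ.erase 3).erase 0) := by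
  rw [mid, range_blk two_ne_zero]; congr 1

theorem range_emb22 : (emb 2 (by omega : 2 + 2 ≤ 4) : Cfsg.SU 2 F 2 →* S4).range =
    SOn ((Finset.univ.erase 0).erase 1) := by
  rw [range_blk two_ne_zero]; congr 1

theorem act_mid_tor (c : Fˣ) :
    act (mid (tor hF c)) (e_[(0 : Fin 4)]) = e_[0] ∧ act (mid (tor hF c)) (e_[(1 : Fin 4)]) = (c : F) • e_[1] ∧
    act (mid (tor hF c)) (e_[(2 : Fin 4)]) = ((c : F)⁻¹) • e_[2] ∧ act (mid (tor hF c)) (e_[(3 : Fin 4)]) = e_[3] := by
  refine ⟨?_, ?_, ?_, ?_⟩ <;>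
  · rw [act_mid, mat_tor]; funext i; fin_cases i <;> simp

/-- Scalar elements of `SU₃`. -/
theorem scalar_of_comm {x : Cfsg.SU 3 F 2} {c : Fˣ} (hc : c ≠ 1) (h1 : Commute x (right2 (tor hF c)))
    (h2 : Commute x (left2 (sw hF))) (h3 : Commute x (right2 (sw hF))) : ∃ d : Fˣ, x = zc hF d := by
  have hc1 : (c : F) ≠ 1 := fun h => hc (Units.ext h)
  have hy : act (right2 (tor hF c)) (act x (e_[(0 : Fin 3)])) = act x (e_[0]) := by
    rw [← act_mul, ← h1.eq, act_mul, act_right hF, mat_tor]
    congr 1; funext i; fin_cases i <;> simp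
  set y := act x (e_[(0 : Fin 3)]) with hydef
  rw [act_right hF, mat_tor] at hy
  have a1 := congrFun hy 1
  have a2 := congrFun hy 2
  simp at a1 a2
  have y1 : y 1 = 0 := by
    by_contra h; exact hc1 ((mul_eq_right₀ h).1 a1)
  have y2 : y 2 = 0 := by
    by_contra h; exact hc1 (inv_eq_one.1 ((mul_eq_right₀ h).1 a2))
  have hy0 : y = y 0 • e_[0] := by funext i; fin_cases i <;> simp [y1, y2]
  have hne : y 0 ≠ 0 := fun h => by
    rw [h, zero_smul, hydef] at hy0
    have := act_inj x (hy0.trans (show (0 : Fin 3 → F) = act x 0 from (mulVec_zero _).symm))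
    simpa using congrFun this 0
  have e1 : act (left2 (sw hF)) (e_[(0 : Fin 3)]) = e_[1] := by
    rw [act_left hF, mat_sw]; funext i; fin_cases i <;> simp
  have e2 : act (right2 (sw hF)) (e_[(1 : Fin 3)]) = e_[2] := by
    rw [act_right hF, mat_sw]; funext i; fin_cases i <;> simp
  have x1 : act x (e_[(1 : Fin 3)]) = y 0 • e_[1] := by
    rw [← e1, ← act_mul, h2.eq, act_mul, ← hydef, hy0, act_smul]; simp
  refine ⟨Units.mk0 _ hne, mat_ext (Matrix.ext_of_mulVec_single fun i => ?_)⟩
  show act x (e_[i]) = act (zc hF _) (e_[i])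
  rw [act_zc]
  fin_cases i
  · exact hy0
  · exact x1
  · show act x (e_[(2 : Fin 3)]) = y 0 • e_[2]
    rw [← e2, ← act_mul, h3.eq, act_mul, x1, act_smul]

theorem left_right_tor (c d : Fˣ) : Commute (left2 (tor hF c)) (right2 (tor hF d)) :=
  eq_of_act fun v => by
    rw [act_mul, act_mul, act_left hF, act_right hF, act_right hF, act_left hF, mat_tor, mat_tor]
    funext i; fin_cases i <;> simp [mul_left_comm]

/-- A frame: the two three-coordinate blocks are in place. -/
structure Frame (f f' : Cfsg.SU 3 F 2 →* S4) : Prop where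
  inj : Function.Injective f
  inj' : Function.Injective f'
  range : f.range = SOn (Finset.univ.erase 3)
  range' : f'.range = SOn (Finset.univ.erase 0)
  mid_eq : (f.comp right2).range = (f'.comp left2).range
  comm : ∀ x y, Commute (f (left2 x)) (f' (right2 y))

theorem frame_mid {f f' : Cfsg.SU 3 F 2 →* S4} (h : Frame f f') :
    (f.comp right2).range = (mid (F := F)).range := by
  rw [range_mid hF]
  refine range_eq_of_le hF (show Function.Injective (f.comp right2) from h.inj.comp (blk_injective _)) (by decide) fun g hg => ?_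
  have h1 : g ∈ (SOn (Finset.univ.erase 3) : Subgroup S4) := by
    rw [← h.range]; obtain ⟨x, rfl⟩ := hg; exact ⟨_, rfl⟩
  have h2 : g ∈ (SOn (Finset.univ.erase 0) : Subgroup S4) := by
    rw [← h.range']; rw [h.mid_eq] at hg; obtain ⟨x, rfl⟩ := hg; exact ⟨_, rfl⟩
  have := SOn_inf h1 h2
  rwa [show (Finset.univ.erase (3 : Fin 4)) ∩ Finset.univ.erase 0 = (Finset.univ.erase 3).erase 0 by decide] at this

theorem mid_tor_mem {f : Cfsg.SU 3 F 2 →* S4} {e : Cfsg.SU 2 F 2 →* Cfsg.SU 3 F 2}
    (he : Function.Injective (f.comp e)) (hr : (f.comp e).range = (mid (F := F)).range) {w : Fˣ} (hw : w ≠ 1) :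
    ∃ c : Fˣ, c ≠ 1 ∧ f (e (tor hF c)) = mid (tor hF w) := by
  obtain ⟨x, hx⟩ : mid (tor hF w) ∈ (f.comp e).range := hr ▸ ⟨_, rfl⟩
  have hmi : Function.Injective (mid (F := F)) := blk_injective _
  have hw3 : w ^ 3 = 1 := Units.ext (by rw [Units.val_pow_eq_pow_val, cube_one hF w.ne_zero, Units.val_one])
  obtain ⟨c, hc, rfl⟩ := eq_tor_of_cube hF (x := x)
    (he (by rw [map_pow, hx, ← map_pow, pow_succ, sq, tor_mul, tor_mul, ← sq, ← pow_succ, hw3, tor_one,
      map_one, map_one]))
    (fun e1 => hw (tor_eq_one hF (hmi (by rw [← hx, e1, map_one, map_one]))))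
  exact ⟨c, hc, hx⟩

/-- The outer two-coordinate blocks are in place as soon as the scalar fits the torus. -/
theorem frame_core {f f' : Cfsg.SU 3 F 2 →* S4} (h : Frame f f') {w c c₀ : Fˣ} (hw : w ≠ 1) (hc : c ≠ 1)
    (hc₀ : c₀ ≠ 1) (hd : f (right2 (tor hF c)) = mid (tor hF w)) (hv : Axis (f (zc hF c)) (e_[(3 : Fin 4)]))
    (hk : act (f (zc hF c)) (e_[(1 : Fin 4)]) = (w : F) • e_[1]) (hv' : Axis (f' (zc hF c₀)) (e_[(0 : Fin 4)])) :
    (f.comp left2).range = SOn ((Finset.univ.erase 3).erase 2) ∧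
      (f'.comp right2).range = SOn ((Finset.univ.erase 0).erase 1) := by
  obtain ⟨m0, m1, m2, m3⟩ := act_mid_tor hF w
  obtain ⟨l, -, z3, zl⟩ := axis_single hF hv
  have hlw : l = w := by
    have := congrFun ((zl 1 (by decide)).symm.trans hk) 1
    simpa using this
  have hw0 := w.ne_zero
  have hw1 : (w : F) ≠ 1 := fun e => hw (Units.ext e)
  subst hlw
  have d1 : ∀ i, act (f (left2 (tor hF c))) (e_[i]) = (![(w : F), w * w, 1, 1] i) • e_[i] := fun i => by
    rw [left_eq, map_mul, hd, act_mul]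
    fin_cases i <;> dsimp
    · rw [m0, zl 0 (by decide)]
    · rw [m1, act_smul, zl 1 (by decide), smul_smul]
    · rw [m2, act_smul, zl 2 (by decide), smul_smul, inv_mul_cancel₀ hw0]
    · rw [m3, z3]; simp
  have hA : (f.comp left2).range = SOn ((Finset.univ.erase 3).erase 2) := by
    refine block_of_fix hF (h.inj.comp (blk_injective _)) (by decide) ?_ hc ?_ fun m hm2 hm3 => ⟨_, ?_, d1 m⟩
    · rw [← h.range]; rintro _ ⟨x, rfl⟩; exact ⟨_, rfl⟩
    · exact (d1 2).trans (by simp)
    · fin_cases m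
      · exact hw1
      · show (w : F) * w ≠ 1; rw [← sq]; exact sq_ne_one hF hw1
      · exact absurd rfl hm2
      · exact absurd rfl hm3
  refine ⟨hA, ?_⟩
  -- the right end
  obtain ⟨c', hc', hd'⟩ := mid_tor_mem hF (f := f') (e := left2) (h.inj'.comp (blk_injective _))
    (by rw [← h.mid_eq, frame_mid hF h]) hw
  obtain ⟨l', hl', y0, yl⟩ := axis_single hF
    (axis_zc hF hc₀ (d := c'⁻¹) (fun e => hc' (inv_eq_one.1 e)) hv')
  have hl0 : l' ≠ 0 := fun e => by
    have h1 := yl 1 (by decide)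
    rw [e, zero_smul] at h1
    have h2 := act_inj _ (h1.trans (show (0 : Fin 4 → F) = act (f' (zc hF c'⁻¹)) 0 from (mulVec_zero _).symm))
    simpa using congrFun h2 1
  have d3 : ∀ i, act (f' (right2 (tor hF c'))) (e_[i]) =
      (![1, l' * (w : F), l' * (w : F)⁻¹, l'] i) • e_[i] := fun i => by
    rw [right_eq, map_mul, hd', act_mul]
    fin_cases i <;> dsimp
    · rw [m0, y0]; simp
    · rw [m1, act_smul, yl 1 (by decide), smul_smul, mul_comm]
    · rw [m2, act_smul, yl 2 (by decide), smul_smul, mul_comm]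
    · rw [m3, yl 3 (by decide)]
  rcases units_cases hF hw (d := Units.mk0 l' hl0) (fun e => hl' (congrArg Units.val e)) with e | e
  · -- impossible: the left swap would centralise this torus element
    exfalso
    have hl : l' = w := congrArg Units.val e
    subst hl
    set t := f (left2 (sw hF)) with ht
    have htA : t ∈ (SOn ((Finset.univ.erase 3).erase 2) : Subgroup S4) := hA ▸ ⟨_, rfl⟩
    set y := act t (e_[(0 : Fin 4)]) with hy
    have hd3y : act (f' (right2 (tor hF c'))) y = y := by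
      rw [hy, ← act_mul, ← (h.comm (sw hF) (tor hF c')).eq, act_mul, d3 0]
      simp [ht]
    have y1 : y 1 = 0 := by
      have e1 := act_herm (f' (right2 (tor hF c'))) y (e_[(1 : Fin 4)])
      rw [hd3y, d3 1, herm_smulr hF, herm_single, qConj_apply hF] at e1
      simp at e1
      by_contra h0
      exact sq_ne_one hF (sq_ne_one hF hw1)
        (mul_right_cancel₀ h0 (by rw [one_mul, sq (w : F)]; exact e1))
    have y2 : y 2 = 0 := by rw [hy, act_apply_out two_ne_zero htA _ (by decide)]; simp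
    have y3 : y 3 = 0 := by rw [hy, act_apply_out two_ne_zero htA _ (by decide)]; simp
    have hye : y = y 0 • e_[0] := by funext i; fin_cases i <;> simp [y1, y2, y3]
    have hyne : y 0 ≠ 0 := fun h0 => by
      rw [h0, zero_smul, hy] at hye
      have := act_inj t (hye.trans (show (0 : Fin 4 → F) = act t 0 from (mulVec_zero _).symm))
      simpa using congrFun this 0
    have hinv : act (f (left2 (tor hF c⁻¹))) (e_[(0 : Fin 4)]) = ((w : F)⁻¹) • e_[0] := by
      have hcc : f (left2 (tor hF c⁻¹)) = (f (left2 (tor hF c)))⁻¹ := by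
        rw [eq_inv_iff_mul_eq_one, ← map_mul, ← map_mul, tor_mul, inv_mul_cancel, tor_one, map_one, map_one]
      rw [hcc]
      refine act_inj (f (left2 (tor hF c))) ?_
      rw [act_act_inv, act_smul, d1 0, smul_smul]
      simp
    have key : act (f (left2 (tor hF c))) y = ((w : F)⁻¹) • y := by
      rw [hy, ht, ← act_mul, ← map_mul, ← map_mul,
        show tor hF c * sw hF = sw hF * tor hF c⁻¹ by rw [sw_tor, inv_inv], map_mul, map_mul, act_mul, hinv,
        act_smul]
    have key0 := congrFun key 0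
    rw [hye, act_smul, d1 0] at key0
    simp at key0
    exact sq_ne_one hF hw1 (by
      have h5 : (w : F) = (w : F)⁻¹ := mul_left_cancel₀ hyne (key0.trans (mul_comm _ _))
      rw [sq]; nth_rewrite 2 [h5]; exact mul_inv_cancel₀ hw0)
  · have hl : l' = (w : F)⁻¹ := by
      have := congrArg Units.val e
      simpa using this
    refine block_of_fix hF (h.inj'.comp (blk_injective _)) (by decide) ?_ hc' ?_ fun m hm1 hm0 => ⟨_, ?_, d3 m⟩
    · rw [← h.range']; rintro _ ⟨x, rfl⟩; exact ⟨_, rfl⟩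
    · exact (d3 1).trans (by simp [hl, hw0])
    · fin_cases m
      · exact absurd rfl hm0
      · exact absurd rfl hm1
      · show l' * (w : F)⁻¹ ≠ 1
        rw [hl, ← sq]; exact sq_ne_one hF (fun e => hw1 (inv_eq_one.1 e))
      · show l' ≠ 1; exact hl'

omit hF in
/-- Composition with conjugation. -/
noncomputable def cj (g : S4) {H : Type*} [Group H] (f : H →* S4) : H →* S4 :=
  (MulAut.conj g).toMonoidHom.comp f

omit hF [Fintype F] in
theorem cj_apply (g : S4) {H : Type*} [Group H] (f : H →* S4) (x : H) : cj g f x = g * f x * g⁻¹ := rfl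

omit hF [Fintype F] in
theorem cj_cj (g g' : S4) {H : Type*} [Group H] (f : H →* S4) : cj g (cj g' f) = cj (g * g') f :=
  MonoidHom.ext fun x => by simp only [cj_apply, _root_.mul_inv_rev, mul_assoc]

omit hF [Fintype F] in
theorem cj_inj (g : S4) {H : Type*} [Group H] {f : H →* S4} (hf : Function.Injective f) :
    Function.Injective (cj g f) := (MulAut.conj g).injective.comp hf

omit hF [Fintype F] in
theorem cj_range (g : S4) {H : Type*} [Group H] (f : H →* S4) :
    (cj g f).range = f.range.map (MulAut.conj g).toMonoidHom := MonoidHom.range_comp _ _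

omit hF in
/-- All five blocks are in place. -/
def Placed (f f' : Cfsg.SU 3 F 2 →* S4) : Prop :=
  f.range = SOn (Finset.univ.erase 3) ∧ f'.range = SOn (Finset.univ.erase 0) ∧
    (f.comp left2).range = SOn ((Finset.univ.erase 3).erase 2) ∧
    (f.comp right2).range = SOn ((Finset.univ.erase 3).erase 0) ∧
    (f'.comp right2).range = SOn ((Finset.univ.erase 0).erase 1)

theorem frame_placed {f f' : Cfsg.SU 3 F 2 →* S4} (h : Frame f f') {c₁ c₀ : Fˣ} (hc₁ : c₁ ≠ 1) (hc₀ : c₀ ≠ 1)
    (hv : Axis (f (zc hF c₁)) (e_[(3 : Fin 4)])) (hv' : Axis (f' (zc hF c₀)) (e_[(0 : Fin 4)])) :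
    ∃ g : S4, Placed (cj g f) (cj g f') := by
  obtain ⟨w₀, hw₀⟩ := exists_omega hF
  let w : Fˣ := Units.mk0 w₀ (omega_ne hF hw₀).1
  have hw : w ≠ 1 := fun e => (omega_ne hF hw₀).2 (congrArg Units.val e)
  obtain ⟨c, hc, hd⟩ := mid_tor_mem hF (f := f) (e := right2) (h.inj.comp (blk_injective _)) (frame_mid hF h) hw
  have hvc := axis_zc hF hc₁ hc hv
  obtain ⟨l, hl, z3, zl⟩ := axis_single hF hvc
  have hl0 : l ≠ 0 := fun e => by
    have h1 := zl 1 (by decide)
    rw [e, zero_smul] at h1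
    have h2 := act_inj _ (h1.trans (show (0 : Fin 4 → F) = act (f (zc hF c)) 0 from (mulVec_zero _).symm))
    simpa using congrFun h2 1
  have hmid : (f.comp right2).range = SOn ((Finset.univ.erase 3).erase 0) := (frame_mid hF h).trans (range_mid hF)
  rcases units_cases hF hw (d := Units.mk0 l hl0) (fun e => hl (congrArg Units.val e)) with e | e
  · obtain ⟨hA, hC⟩ := frame_core hF h hw hc hc₀ hd hvc
      ((zl 1 (by decide)).trans (by rw [show l = (w : F) from congrArg Units.val e])) hv'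
    refine ⟨1, ?_⟩
    have h1 : ∀ k : Cfsg.SU 3 F 2 →* S4, cj 1 k = k := fun k => MonoidHom.ext fun x => by simp [cj_apply]
    rw [h1, h1]
    exact ⟨h.range, h.range', hA, hmid, hC⟩
  · -- exchange the two middle coordinates
    set s : S4 := mid (sw hF) with hs
    have hsm : ∀ T : Finset (Fin 4), ((Finset.univ.erase 3).erase 0) ⊆ T → s ∈ (SOn T : Subgroup S4) :=
      fun T hT => CfsgLib.Pres.SUn.SOn_mono hT ((range_mid hF) ▸ ⟨_, rfl⟩)
    have hkeep : ∀ {k : ℕ} (p : Cfsg.SU k F 2 →* S4) (T : Finset (Fin 4)), Function.Injective p → T.card = k →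
        ((Finset.univ.erase 3).erase 0) ⊆ T → p.range = SOn T → (cj s p).range = SOn T := by
      intro k p T hp hT hsub hr
      refine range_eq_of_le hF (cj_inj s hp) hT ?_
      rintro _ ⟨x, rfl⟩
      rw [cj_apply]
      exact mul_mem (mul_mem (hsm T hsub) (hr ▸ ⟨x, rfl⟩)) (inv_mem (hsm T hsub))
    have hfr : Frame (cj s f) (cj s f') :=
      ⟨cj_inj s h.inj, cj_inj s h.inj', hkeep f _ h.inj (by decide) (by decide) h.range,
        hkeep f' _ h.inj' (by decide) (by decide) h.range', by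
          show ((MulAut.conj s).toMonoidHom.comp f |>.comp right2).range =
            ((MulAut.conj s).toMonoidHom.comp f' |>.comp left2).range
          rw [MonoidHom.comp_assoc, MonoidHom.comp_assoc, MonoidHom.range_comp, h.mid_eq, ← MonoidHom.range_comp],
        fun x y => (h.comm x y).map (MulAut.conj s).toMonoidHom⟩
    have hz : cj s f (zc hF c) = f (zc hF c) := by
      obtain ⟨x, hx⟩ : s ∈ f.range := h.range ▸ hsm _ (by decide)
      rw [cj_apply, ← hx, ((zc_comm hF c x).map f).symm.eq, mul_inv_cancel_right]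
    have hd2 : cj s f (right2 (tor hF c)) = mid (tor hF w⁻¹) := by
      rw [cj_apply, hd, hs, ← map_inv, ← map_mul, ← map_mul, sw_tor]
      congr 1
      rw [mul_assoc, mul_inv_cancel, mul_one]
    obtain ⟨hA, hC⟩ := frame_core hF hfr (w := w⁻¹) (fun e1 => hw (inv_eq_one.1 e1)) hc hc₀ hd2
      (by rw [hz]; exact hvc) (by rw [hz]; exact (zl 1 (by decide)).trans (by
        rw [show l = ((w⁻¹ : Fˣ) : F) from congrArg Units.val e]))
      (by
        rw [cj_apply]
        exact axis_conj hF hv' ((range_mid hF ▸ ⟨_, rfl⟩ : s ∈ (SOn ((Finset.univ.erase 3).erase 0) : Subgroup S4)) 0 (by decide)))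
    exact ⟨s, hfr.range, hfr.range', hA, (frame_mid hF hfr).trans (range_mid hF), hC⟩

/-- The normalisation inside `SU₄(2)`. -/
theorem exists_placed {f f' : Cfsg.SU 3 F 2 →* S4} (hf : Function.Injective f) (hf' : Function.Injective f')
    (hmid : (f.comp right2).range = (f'.comp left2).range)
    (hcomm : ∀ x y, Commute (f (left2 x)) (f' (right2 y))) (htop : f.range ⊔ f'.range = ⊤) :
    ∃ g : S4, Placed (cj g f) (cj g f') := by
  classical
  obtain ⟨w₀, hw₀⟩ := exists_omega hF
  let w : Fˣ := Units.mk0 w₀ (omega_ne hF hw₀).1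
  have hw : w ≠ 1 := fun e => (omega_ne hF hw₀).2 (congrArg Units.val e)
  obtain ⟨v, hv⟩ := exists_axis_zc hF hf hw
  obtain ⟨v', hv'⟩ := exists_axis_zc hF hf' hw
  set z := f (zc hF w) with hz
  set z' := f' (zc hF w) with hz'
  have hzz : Commute z z' := by
    have hmm : ∀ a, ∃ b : Fˣ, f' (left2 (tor hF a)) = f (right2 (tor hF b)) := fun a => by
      obtain ⟨x, hx⟩ : f' (left2 (tor hF a)) ∈ (f.comp right2).range := hmid ▸ ⟨_, rfl⟩
      rcases eq_or_ne a 1 with rfl | ha
      · exact ⟨1, by simp [tor_one]⟩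
      have ha3 : a ^ 3 = 1 := Units.ext (by rw [Units.val_pow_eq_pow_val, cube_one hF a.ne_zero, Units.val_one])
      obtain ⟨b, -, rfl⟩ := eq_tor_of_cube hF (x := x)
        ((hf.comp (blk_injective _)) (show (f.comp right2) (x ^ 3) = (f.comp right2) 1 by
          rw [map_pow, hx, ← map_pow, ← map_pow, pow_succ, sq, tor_mul, tor_mul, ← sq, ← pow_succ, ha3, tor_one,
            map_one, map_one, map_one]))
        (fun e => ha (tor_eq_one hF (blk_injective _ (hf' (by rw [← hx, e, map_one, map_one, map_one])))))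
      exact ⟨b, hx.symm⟩
    obtain ⟨b, hb⟩ := hmm w
    have hmm' : ∀ a, ∃ b : Fˣ, f (right2 (tor hF a)) = f' (left2 (tor hF b)) := fun a => by
      obtain ⟨x, hx⟩ : f (right2 (tor hF a)) ∈ (f'.comp left2).range := hmid ▸ ⟨_, rfl⟩
      rcases eq_or_ne a 1 with rfl | ha
      · exact ⟨1, by simp [tor_one]⟩
      have ha3 : a ^ 3 = 1 := Units.ext (by rw [Units.val_pow_eq_pow_val, cube_one hF a.ne_zero, Units.val_one])
      obtain ⟨b, -, rfl⟩ := eq_tor_of_cube hF (x := x)
        ((hf'.comp (blk_injective _)) (show (f'.comp left2) (x ^ 3) = (f'.comp left2) 1 by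
          rw [map_pow, hx, ← map_pow, ← map_pow, pow_succ, sq, tor_mul, tor_mul, ← sq, ← pow_succ, ha3, tor_one,
            map_one, map_one, map_one]))
        (fun e => ha (tor_eq_one hF (blk_injective _ (hf (by rw [← hx, e, map_one, map_one, map_one])))))
      exact ⟨b, hx.symm⟩
    obtain ⟨b', hb'⟩ := hmm' w⁻¹
    rw [hz, hz', zc, map_mul, map_mul]
    refine Commute.mul_left (Commute.mul_right ?_ (hcomm _ _)) (Commute.mul_right ?_ ?_)
    · rw [hb]; exact (left_right_tor hF _ _).map f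
    · rw [hb]
      exact ((show Commute (tor hF w⁻¹) (tor hF b) by
        show _ * _ = _ * _; rw [tor_mul, tor_mul, mul_comm]).map right2).map f
    · rw [hb']; exact (left_right_tor hF _ _).map f'
  -- the two axes are orthogonal
  have horth : ⟪v', v⟫ = 0 := by
    have hfx : act z' (act z v') = act z v' := by rw [← act_mul, ← hzz.eq, act_mul, hv'.2.1]
    have hk := axis_fixed hF hv' hfx
    by_contra h0
    have e := act_herm z v' v
    rw [hv.2.1, hk, herm_smull hF] at e
    have k1 : ⟪act z v', v'⟫ = 1 := mul_right_cancel₀ h0 (by rw [one_mul]; exact e)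
    rw [k1, one_smul] at hk
    have hvv := axis_fixed hF hv hk
    -- then both copies fix the same vector
    obtain ⟨h, hh⟩ := su_trans hF (by norm_num : 3 ≤ 4) (x := e_[(3 : Fin 4)]) (y := v) (by simp)
      (unit_ne_zero hF hv.1) (by rw [herm_unit hF, hv.1])
    have hg : act h⁻¹ v = e_[(3 : Fin 4)] := by rw [← hh, act_inv_act]
    have hax' : Axis z' v := by
      obtain ⟨-, a2, l, hl, a3⟩ := hv'
      refine ⟨hv.1, ?_, l, hl, fun x hx => a3 x ?_⟩
      · have : v = (⟪v', v⟫)⁻¹ • v' := by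
          conv_rhs => rw [hvv]
          rw [herm_smull hF, hv.1, mul_one, smul_smul, inv_mul_cancel₀ h0, one_smul]
        rw [this, act_smul, a2]
      · rw [hvv, herm_smulr hF, hx, mul_zero]
    have r1 := range_of_axis hF (cj_inj h⁻¹ hf) (c := w) (j := 3) (by rw [cj_apply]; exact axis_conj hF hv hg)
    have r2 := range_of_axis hF (cj_inj h⁻¹ hf') (c := w) (j := 3) (by rw [cj_apply]; exact axis_conj hF hax' hg)
    have hall : (⊤ : Subgroup S4) ≤ SOn (Finset.univ.erase 3) := by
      have := congrArg (Subgroup.map (MulAut.conj h⁻¹).toMonoidHom) htop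
      rw [Subgroup.map_sup, ← cj_range, ← cj_range, r1, r2, sup_idem,
        Subgroup.map_top_of_surjective _ (MulAut.conj h⁻¹).surjective] at this
      exact this.ge
    obtain ⟨g0, hg0⟩ := su_trans hF (by norm_num : 3 ≤ 4) (x := e_[(3 : Fin 4)]) (y := e_[(0 : Fin 4)]) (by simp)
      (by simp) (by rw [herm_unit hF, herm_unit hF])
    have := congrFun (((hall (Subgroup.mem_top g0)) 3 (by simp)).symm.trans hg0) 3
    simp at this
  -- move the axes to coordinate vectors
  obtain ⟨h1, hh1⟩ := su_trans hF (by norm_num : 3 ≤ 4) (x := e_[(3 : Fin 4)]) (y := v) (by simp)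
    (unit_ne_zero hF hv.1) (by rw [herm_unit hF, hv.1])
  obtain ⟨h2, hh2, hh2'⟩ := on_trans hF (T := Finset.univ.erase (3 : Fin 4)) (by decide)
    (x := e_[(0 : Fin 4)]) (y := act h1⁻¹ v')
    (fun i hi => by obtain rfl : i = 3 := (by simpa using hi); simp)
    (fun i hi => by
      obtain rfl : i = 3 := (by simpa using hi)
      rw [← herm_single (act h1⁻¹ v') 3, ← act_herm h1, act_act_inv, hh1, horth])
    (by simp) (unit_ne_zero hF (by rw [act_herm, hv'.1]))
    (by rw [herm_unit hF, act_herm, hv'.1])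
  set g := (h1 * h2)⁻¹ with hg
  have g3 : act g v = e_[(3 : Fin 4)] := by
    rw [hg]
    refine act_inj (h1 * h2) ?_
    rw [act_act_inv, act_mul, hh2 3 (by simp), hh1]
  have g0 : act g v' = e_[(0 : Fin 4)] := by
    rw [hg]
    refine act_inj (h1 * h2) ?_
    rw [act_act_inv, act_mul, hh2', act_act_inv]
  have a3 : Axis (cj g f (zc hF w)) (e_[(3 : Fin 4)]) := by rw [cj_apply]; exact axis_conj hF hv g3
  have a0 : Axis (cj g f' (zc hF w)) (e_[(0 : Fin 4)]) := by rw [cj_apply]; exact axis_conj hF hv' g0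
  obtain ⟨g', hg'⟩ := frame_placed hF (f := cj g f) (f' := cj g f')
    ⟨cj_inj g hf, cj_inj g hf', range_of_axis hF (cj_inj g hf) a3, range_of_axis hF (cj_inj g hf') a0, by
        show ((MulAut.conj g).toMonoidHom.comp f |>.comp right2).range =
          ((MulAut.conj g).toMonoidHom.comp f' |>.comp left2).range
        rw [MonoidHom.comp_assoc, MonoidHom.comp_assoc, MonoidHom.range_comp, hmid, ← MonoidHom.range_comp],
      fun x y => (hcomm x y).map (MulAut.conj g).toMonoidHom⟩ hw hw a3 a0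
  exact ⟨g' * g, by rwa [cj_cj, cj_cj] at hg'⟩

theorem isSimpleGroup_su_four : IsSimpleGroup S4 := by
  have hz : Subgroup.center S4 = ⊥ := Subgroup.eq_bot_of_card_eq _ (by
    rw [CfsgLib.Classical.card_center_su hF (by norm_num)]; rfl)
  have := CfsgLib.Classical.isSimpleGroup_psu hF (n := 4) (by norm_num) (by norm_num)
  exact (((QuotientGroup.quotientMulEquivOfEq hz).trans QuotientGroup.quotientBot).symm).isSimpleGroup

variable {G : Type v} [Group G]

theorem injective_of_ne_one (g : S4 →* G) (hg : g ≠ 1) : Function.Injective g := by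
  have := isSimpleGroup_su_four hF
  rcases (MonoidHom.normal_ker g).eq_bot_or_eq_top with h | h
  · exact (MonoidHom.ker_eq_bot_iff g).1 h
  · exact absurd (MonoidHom.ker_eq_top_iff.1 h) hg

/-- A map of a three-coordinate block with central kernel. -/
theorem exists_good_ker {V A B : Subgroup G} (h : Cfsg.IsStandardUnitaryPair V A B F 2) :
    ∃ f : Cfsg.SU 3 F 2 →* G, Good V A B f ∧ ∀ x, f x = 1 → x ∈ Subgroup.center (Cfsg.SU 3 F 2) := by
  have hl : Cfsg.suBlock 3 F 2 {0, 1} = (left2 (F := F) (q := 2)).range := suBlock_eq_range hF _ (by decide)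
  have hr : Cfsg.suBlock 3 F 2 {1, 2} = (right2 (F := F) (q := 2)).range := suBlock_eq_range hF _ (by decide)
  rw [Cfsg.IsStandardUnitaryPair, hl, hr] at h
  obtain ⟨f, hV, h1, h2, hk⟩ : ∃ f : Cfsg.SU 3 F 2 →* G, f.range = V ∧ (left2 (F := F) (q := 2)).range.map f = A ∧
      (right2 (F := F) (q := 2)).range.map f = B ∧ ∀ x, f x = 1 → x ∈ Subgroup.center (Cfsg.SU 3 F 2) := by
    rcases h with ⟨ψ, h1, h2⟩ | ⟨ψ, h1, h2⟩
    · refine ⟨_, ?_, h1, h2, fun x hx => ?_⟩
      · rw [MonoidHom.range_comp, MonoidHom.range_eq_top.2 ψ.surjective, ← MonoidHom.range_eq_map,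
          Subgroup.range_subtype]
      · rw [(map_eq_one_iff (V.subtype.comp ψ.toMonoidHom) (V.subtype_injective.comp ψ.injective)).1 hx]
        exact one_mem _
    · refine ⟨_, ?_, h1, h2, fun x hx => ?_⟩
      · rw [MonoidHom.range_comp, MonoidHom.range_eq_top.2 (ψ.surjective.comp (QuotientGroup.mk'_surjective _)),
          ← MonoidHom.range_eq_map, Subgroup.range_subtype]
      · have : ψ (QuotientGroup.mk x) = 1 := V.subtype_injective (hx.trans (map_one _).symm)
        exact (QuotientGroup.eq_one_iff _).1 ((map_eq_one_iff _ ψ.injective).1 this)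
  exact ⟨f, ⟨hV, by rw [MonoidHom.range_comp, h1], by rw [MonoidHom.range_comp, h2],
    (injective_iff_map_eq_one _).2 fun x hx => block_center hF (.inl (hk _ hx)),
    (injective_iff_map_eq_one _).2 fun x hx => block_center hF (.inr (hk _ hx))⟩, hk⟩

theorem injective_pair {V A B C V' : Subgroup G} {f f' : Cfsg.SU 3 F 2 →* G} (hf : Good V A B f)
    (hf' : Good V' B C f') (hk : ∀ x, f x = 1 → x ∈ Subgroup.center (Cfsg.SU 3 F 2))
    (hk' : ∀ x, f' x = 1 → x ∈ Subgroup.center (Cfsg.SU 3 F 2))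
    (hcomm : ∀ x ∈ A, ∀ y ∈ C, x * y = y * x) : Function.Injective f ∧ Function.Injective f' := by
  have conj_l : ∀ d : Fˣ, left2 (sw hF) * right2 (tor hF d) * left2 (sw hF) =
      left2 (tor hF d) * right2 (tor hF d) := fun d => eq_of_act fun v => by
    simp only [act_mul, act_left hF, act_right hF, mat_tor, mat_sw]
    funext i; fin_cases i <;> simp
  have conj_r : ∀ d : Fˣ, right2 (sw hF) * left2 (tor hF d) * right2 (sw hF) =
      left2 (tor hF d) * right2 (tor hF d) := fun d => eq_of_act fun v => by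
    simp only [act_mul, act_left hF, act_right hF, mat_tor, mat_sw]
    funext i; fin_cases i <;> simp
  have hss : right2 (sw hF) * right2 (sw hF) = 1 ∧ left2 (sw hF) * left2 (sw hF) = 1 :=
    ⟨by rw [← map_mul, sw_sq, map_one], by rw [← map_mul, sw_sq, map_one]⟩
  have hcube : ∀ (p : Cfsg.SU 2 F 2 →* G), Function.Injective p → ∀ (x : Cfsg.SU 2 F 2) (c : Fˣ), c ≠ 1 →
      ∀ (p' : Cfsg.SU 2 F 2 →* G), Function.Injective p' → p x = p' (tor hF c) →
      ∃ d : Fˣ, d ≠ 1 ∧ x = tor hF d := by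
    intro p hp x c hc p' hp' e
    refine eq_tor_of_cube hF (hp ?_) fun e1 => hc (tor_eq_one hF (hp' ?_))
    · rw [map_pow, e, ← map_pow, map_one, pow_succ, sq, tor_mul, tor_mul, ← sq, ← pow_succ,
        show c ^ 3 = 1 from Units.ext (by rw [Units.val_pow_eq_pow_val, cube_one hF c.ne_zero, Units.val_one]),
        tor_one, map_one]
    · rw [← e, e1, map_one, map_one]
  have n1 : ∀ c : Fˣ, c ≠ 1 → f (zc hF c) ≠ 1 := fun c hc e => by
    have e1 : f (left2 (tor hF c)) = f (right2 (tor hF c)) := by rw [left_eq, map_mul, e, one_mul]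
    obtain ⟨x, hx⟩ : f (right2 (tor hF c)) ∈ (f'.comp left2).range := by
      rw [hf'.left, ← hf.right]; exact ⟨_, rfl⟩
    obtain ⟨d, hd, rfl⟩ := hcube (f'.comp left2) hf'.left_inj x c hc (f.comp right2) hf.right_inj hx
    have hc' : Commute (f' (left2 (tor hF d))) (f' (right2 (sw hF))) := by
      rw [show f' (left2 (tor hF d)) = f (left2 (tor hF c)) from hx.trans e1.symm]
      exact hcomm _ (hf.left ▸ ⟨_, rfl⟩) _ (hf'.right ▸ ⟨_, rfl⟩)
    have e2 := congrArg f' (conj_r d)
    rw [map_mul, map_mul, map_mul, ← hc'.eq, mul_assoc, ← map_mul, hss.1, map_one, mul_one] at e2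
    exact hd (tor_eq_one hF (hf'.right_inj (by
      show f' (right2 (tor hF d)) = f' (right2 1)
      rw [map_one, map_one]; exact left_eq_mul.1 e2)))
  have n2 : ∀ c : Fˣ, c ≠ 1 → f' (zc hF c) ≠ 1 := fun c hc e => by
    have e1 : f' (left2 (tor hF c)) = f' (right2 (tor hF c)) := by rw [left_eq, map_mul, e, one_mul]
    obtain ⟨x, hx⟩ : f' (left2 (tor hF c)) ∈ (f.comp right2).range := by
      rw [hf.right, ← hf'.left]; exact ⟨_, rfl⟩
    obtain ⟨d, hd, rfl⟩ := hcube (f.comp right2) hf.right_inj x c hc (f'.comp left2) hf'.left_inj hx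
    have hc' : Commute (f (left2 (sw hF))) (f (right2 (tor hF d))) := by
      rw [show f (right2 (tor hF d)) = f' (right2 (tor hF c)) from hx.trans e1]
      exact hcomm _ (hf.left ▸ ⟨_, rfl⟩) _ (hf'.right ▸ ⟨_, rfl⟩)
    have e2 := congrArg f (conj_l d)
    rw [map_mul, map_mul, map_mul, hc'.eq, mul_assoc, ← map_mul, hss.2, map_one, mul_one] at e2
    exact hd (tor_eq_one hF (hf.left_inj (by
      show f (left2 (tor hF d)) = f (left2 1)
      rw [map_one, map_one]; exact right_eq_mul.1 e2)))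
  obtain ⟨w₀, hw₀⟩ := exists_omega hF
  have hw : Units.mk0 w₀ (omega_ne hF hw₀).1 ≠ 1 := fun e => (omega_ne hF hw₀).2 (congrArg Units.val e)
  have key : ∀ (p : Cfsg.SU 3 F 2 →* G), (∀ x, p x = 1 → x ∈ Subgroup.center (Cfsg.SU 3 F 2)) →
      (∀ c : Fˣ, c ≠ 1 → p (zc hF c) ≠ 1) → Function.Injective p := by
    intro p hp hn
    refine (injective_iff_map_eq_one p).2 fun x hx => ?_
    have hc := fun y => ((Subgroup.mem_center_iff.1 (hp x hx)) y).symm
    obtain ⟨d, rfl⟩ := scalar_of_comm hF hw (hc _) (hc _) (hc _)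
    by_contra h1
    exact hn d (fun e => h1 (by rw [e, zc_one])) hx
  exact ⟨key f hk n1, key f' hk' n2⟩

/-- **Normalisation of a triple.** -/
theorem exists_four {A B C V V' : Subgroup G} (h : Cfsg.IsStandardUnitaryPair V A B F 2)
    (h' : Cfsg.IsStandardUnitaryPair V' B C F 2) (hcomm : ∀ x ∈ A, ∀ y ∈ C, x * y = y * x)
    (g : S4 →* ↥(V ⊔ V')) (hg : Function.Surjective g) :
    ∃ φ : S4 →* G, Function.Injective φ ∧ φ.range = V ⊔ V' ∧
      (φ.comp (emb 0 (by omega : 0 + 3 ≤ 4))).range = V ∧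
      (φ.comp (emb 1 (by omega : 1 + 3 ≤ 4))).range = V' ∧
      (φ.comp (emb 0 (by omega : 0 + 2 ≤ 4))).range = A ∧
      (φ.comp (emb 1 (by omega : 1 + 2 ≤ 4))).range = B ∧
      (φ.comp (emb 2 (by omega : 2 + 2 ≤ 4))).range = C := by
  obtain ⟨f, hf, hk⟩ := exists_good_ker hF h
  obtain ⟨f', hf', hk'⟩ := exists_good_ker hF h'
  obtain ⟨hfi, hfi'⟩ := injective_pair hF hf hf' hk hk' hcomm
  set ι : S4 →* G := (V ⊔ V').subtype.comp g with hιdef
  have hιr : ι.range = V ⊔ V' := by
    rw [hιdef, MonoidHom.range_comp, MonoidHom.range_eq_top.2 hg, ← MonoidHom.range_eq_map,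
      Subgroup.range_subtype]
  have hmem : ∀ x, f x ∈ ι.range := fun x => by
    rw [hιr]; exact Subgroup.mem_sup_left (hf.range ▸ ⟨x, rfl⟩)
  have hmem' : ∀ x, f' x ∈ ι.range := fun x => by
    rw [hιr]; exact Subgroup.mem_sup_right (hf'.range ▸ ⟨x, rfl⟩)
  have hι : Function.Injective ι := injective_of_ne_one hF ι fun e => sw_ne_one hF <| by
    obtain ⟨y, hy⟩ := hmem (left2 (sw hF))
    rw [e, MonoidHom.one_apply] at hy
    exact hf.left_inj (hy.symm.trans (map_one (f.comp left2)).symm)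
  let lift : ∀ p : Cfsg.SU 3 F 2 →* G, (∀ x, p x ∈ ι.range) → (Cfsg.SU 3 F 2 →* S4) := fun p hp =>
    (MonoidHom.ofInjective hι).symm.toMonoidHom.comp (p.codRestrict ι.range hp)
  have hlift : ∀ p hp x, ι (lift p hp x) = p x := fun p hp x =>
    congrArg Subtype.val ((MonoidHom.ofInjective hι).apply_symm_apply (p.codRestrict ι.range hp x))
  set a := lift f hmem with ha
  set a' := lift f' hmem' with ha'
  have ea : ι.comp a = f := MonoidHom.ext (hlift f hmem)
  have ea' : ι.comp a' = f' := MonoidHom.ext (hlift f' hmem')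
  obtain ⟨t, hV, hV', hA, hB, hC⟩ := exists_placed hF (f := a) (f' := a')
    (fun x y e => hfi (by rw [← ea]; exact congrArg ι e)) (fun x y e => hfi' (by rw [← ea']; exact congrArg ι e))
    (Subgroup.map_injective hι (by
      rw [← MonoidHom.range_comp, ← MonoidHom.range_comp]
      show ((ι.comp a).comp right2).range = ((ι.comp a').comp left2).range
      rw [ea, ea', hf.right, hf'.left]))
    (fun x y => hι (by
      rw [map_mul, map_mul, hlift, hlift]
      exact hcomm _ (hf.left ▸ ⟨x, rfl⟩) _ (hf'.right ▸ ⟨y, rfl⟩)))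
    (Subgroup.map_injective hι (by
      rw [Subgroup.map_sup, ← MonoidHom.range_comp, ← MonoidHom.range_comp, ea, ea', hf.range, hf'.range,
        ← MonoidHom.range_eq_map, hιr]))
  let φ : S4 →* G := ι.comp (MulAut.conj t⁻¹).toMonoidHom
  have hφc : ∀ p : Cfsg.SU 3 F 2 →* S4, φ.comp (cj t p) = ι.comp p := fun p => MonoidHom.ext fun x => by
    show ι (t⁻¹ * (t * p x * t⁻¹) * t⁻¹⁻¹) = ι (p x)
    congr 1; group
  refine ⟨φ, hι.comp (MulAut.conj t⁻¹).injective, ?_, ?_, ?_, ?_, ?_, ?_⟩
  · rw [MonoidHom.range_comp, MonoidHom.range_eq_top.2 (MulAut.conj t⁻¹).surjective, ← MonoidHom.range_eq_map,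
      hιr]
  · rw [MonoidHom.range_comp, range_emb30 hF, ← hV, ← MonoidHom.range_comp, hφc, ea, hf.range]
  · rw [MonoidHom.range_comp, range_emb31 hF, ← hV', ← MonoidHom.range_comp, hφc, ea', hf'.range]
  · rw [MonoidHom.range_comp, range_emb20 hF, ← hA, ← MonoidHom.range_comp, ← MonoidHom.comp_assoc, hφc, ea,
      hf.left]
  · show (φ.comp (mid (F := F))).range = B
    rw [MonoidHom.range_comp, range_mid hF, ← hB, ← MonoidHom.range_comp, ← MonoidHom.comp_assoc, hφc, ea,
      hf.right]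
  · rw [MonoidHom.range_comp, range_emb22 hF, ← hC, ← MonoidHom.range_comp, ← MonoidHom.comp_assoc, hφc, ea',
      hf'.right]

end CfsgLib.Recog.Phan.Two
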