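import Cfsg.Agent.Lib.Recog.Phan.Small.TwoFour
import Cfsg.Agent.Lib.Pres.SUPerm

/-!
# Gluing two normalised copies of `SU₄(2)` along a common `SU₃(2)`
-/

set_option autoImplicit false
set_option linter.unusedSectionVars false

namespace CfsgLib.Recog.Phan.Two

open Matrix CfsgLib.MaxSub CfsgLib.Recog.Phan CfsgLib.Recog.Phan.Norm
open CfsgLib.Pres.SUn (act blk blkMat blkMat_in blkMat_row blkMat_out blk_blk blk_injective act_mul act_smul
  eq_of_act)

universe u v
variable {F : Type u} [Field F] [Fintype F] (hF : Fintype.card F = 2 ^ 2)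

local notation "S4" => Cfsg.SU 4 F 2

include hF

/-- Conjugation by a diagonal element composed with a field automorphism. -/
theorem exists_tw {n : ℕ} (d : Fin n → Fˣ) (τ : F ≃+* F) :
    ∃ α : Cfsg.SU n F 2 →* Cfsg.SU n F 2, Function.Bijective α ∧
      ∀ A i j, mat (α A) i j = (d i : F) * τ (mat A i j) * ((d j : F))⁻¹ := by
  let dd : Fin n → F := fun i => d i
  have hd0 : ∀ i, dd i ≠ 0 := fun i => (d i).ne_zero
  have hdσ : ∀ i, dd i * qConj hF (dd i) = 1 := fun i => by rw [qConj_inv hF, mul_inv_cancel₀ (hd0 i)]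
  let m : Matrix (Fin n) (Fin n) F → Matrix (Fin n) (Fin n) F := fun M =>
    diagonal dd * M.map τ * diagonal (fun i => (dd i)⁻¹)
  have hmm : ∀ M i j, m M i j = dd i * τ (M i j) * (dd j)⁻¹ := fun M i j => by
    simp [m, mul_diagonal, diagonal_mul]
  have hdd : diagonal (fun i => (dd i)⁻¹) * diagonal dd = (1 : Matrix (Fin n) (Fin n) F) := by
    rw [diagonal_mul_diagonal, ← diagonal_one]; congr 1; funext i; exact inv_mul_cancel₀ (hd0 i)
  have hmul : ∀ M N, m (M * N) = m M * m N := fun M N => by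
    simp only [m, Matrix.map_mul, Matrix.mul_assoc]
    rw [← Matrix.mul_assoc (diagonal fun i => (dd i)⁻¹), hdd, Matrix.one_mul]
  have hdet : ∀ M, (m M).det = τ M.det := fun M => by
    simp only [m, det_mul, det_diagonal]
    rw [show (M.map τ).det = τ M.det from ((τ : F →+* F).map_det M).symm, mul_right_comm,
      ← Finset.prod_mul_distrib]
    simp [hd0]
  have hsu : ∀ A : Cfsg.SU n F 2, (m (mat A))ᵀ * (m (mat A)).map (qConj hF) = 1 := fun A => by
    ext i j
    rw [Matrix.mul_apply]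
    simp only [Matrix.transpose_apply, Matrix.map_apply, hmm, map_mul, map_inv₀]
    have key : ∀ k, dd k * τ (mat A k i) * (dd i)⁻¹ *
        (qConj hF (dd k) * qConj hF (τ (mat A k j)) * (qConj hF (dd j))⁻¹) =
        (dd i)⁻¹ * (qConj hF (dd j))⁻¹ * τ (mat A k i * qConj hF (mat A k j)) := fun k => by
      rw [map_mul τ, qConj_comm hF τ]
      linear_combination (τ (mat A k i) * (dd i)⁻¹ * qConj hF (τ (mat A k j)) * (qConj hF (dd j))⁻¹) * hdσ k
    rw [Finset.sum_congr rfl fun k _ => key k, ← Finset.mul_sum, ← map_sum]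
    have := congrFun (congrFun (mat_unitary hF A) i) j
    rw [Matrix.mul_apply] at this
    simp only [Matrix.transpose_apply, Matrix.map_apply] at this
    rw [this]
    rcases eq_or_ne i j with rfl | hij
    · rw [Matrix.one_apply_eq, map_one, mul_one, ← mul_inv, hdσ, inv_one]
    · rw [Matrix.one_apply_ne hij, map_zero, mul_zero]
  let f : Cfsg.SU n F 2 → Cfsg.SU n F 2 := fun A =>
    ⟨⟨m (mat A), by rw [hdet, show (mat A).det = 1 from (A : SpecialLinearGroup (Fin n) F).2, map_one]⟩,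
      mem_su_of_mat hF _ (hsu A)⟩
  let α : Cfsg.SU n F 2 →* Cfsg.SU n F 2 := MonoidHom.mk' f fun A B => mat_ext (hmul _ _)
  have inj : Function.Injective α := fun A B h => mat_ext (Matrix.ext fun i j => by
    have := congrFun (congrFun (congrArg mat h) i) j
    change m (mat A) i j = m (mat B) i j at this
    rw [hmm, hmm] at this
    exact τ.injective (mul_left_cancel₀ (hd0 i) (mul_right_cancel₀ (inv_ne_zero (hd0 j)) this)))
  exact ⟨α, ⟨inj, Finite.surjective_of_injective inj⟩, fun A i j => hmm _ i j⟩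

theorem tw_blk {n k : ℕ} (e : Fin k ↪ Fin n) {d : Fin n → Fˣ} {τ : F ≃+* F}
    {α : Cfsg.SU n F 2 →* Cfsg.SU n F 2}
    (hα : ∀ A i j, mat (α A) i j = (d i : F) * τ (mat A i j) * ((d j : F))⁻¹)
    {α' : Cfsg.SU k F 2 →* Cfsg.SU k F 2}
    (hα' : ∀ A i j, mat (α' A) i j = (d (e i) : F) * τ (mat A i j) * ((d (e j) : F))⁻¹) (x : Cfsg.SU k F 2) :
    α (blk e x) = blk e (α' x) := by
  refine mat_ext (Matrix.ext fun i j => ?_)
  rw [hα]
  show _ * τ (blkMat e (mat x) i j) * _ = blkMat e (mat (α' x)) i j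
  by_cases hi : ∃ a, e a = i
  · obtain ⟨a, rfl⟩ := hi
    by_cases hj : ∃ b, e b = j
    · obtain ⟨b, rfl⟩ := hj
      rw [blkMat_in, blkMat_in, hα']
    · rw [blkMat_row e _ a hj, blkMat_row e _ a hj, map_zero, mul_zero, zero_mul]
  · rw [blkMat_out e _ j hi, blkMat_out e _ j hi]
    rcases eq_or_ne i j with rfl | hij
    · simp
    · simp [hij]

/-- A semilinear diagonal map keeps every block. -/
theorem tw_range {n : ℕ} {d : Fin n → Fˣ} {τ : F ≃+* F} {α : Cfsg.SU n F 2 →* Cfsg.SU n F 2}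
    (hα : ∀ A i j, mat (α A) i j = (d i : F) * τ (mat A i j) * ((d j : F))⁻¹)
    {G : Type v} [Group G] (φ : Cfsg.SU n F 2 →* G) {k : ℕ} (e : Fin k ↪ Fin n) :
    ((φ.comp α).comp (blk e)).range = (φ.comp (blk e)).range := by
  obtain ⟨α', hb, hα'⟩ := exists_tw hF (fun i => d (e i)) τ
  have hc : α.comp (blk e) = (blk e).comp α' := MonoidHom.ext (tw_blk hF e hα hα')
  rw [MonoidHom.comp_assoc, hc, ← MonoidHom.comp_assoc, MonoidHom.range_comp,
    MonoidHom.range_eq_top.2 hb.2, ← MonoidHom.range_eq_map]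

theorem tor_inv (c : Fˣ) : (tor hF c)⁻¹ = tor hF c⁻¹ :=
  inv_eq_of_mul_eq_one_right (by rw [tor_mul, mul_inv_cancel, tor_one])

/-- A map fixing the four torus and swap elements is the identity. -/
theorem eq_id_of_fix {w : Fˣ} (hw : (w : F) * w = w + 1) (γ : MulAut (Cfsg.SU 3 F 2))
    (h1 : γ (left2 (tor hF w)) = left2 (tor hF w)) (h2 : γ (left2 (sw hF)) = left2 (sw hF))
    (h3 : γ (right2 (tor hF w)) = right2 (tor hF w)) (h4 : γ (right2 (sw hF)) = right2 (sw hF))
    (x : Cfsg.SU 3 F 2) : γ x = x := by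
  have hw1 : w ≠ 1 := fun e => (omega_ne hF hw).2 (congrArg Units.val e)
  set S : Subgroup (Cfsg.SU 3 F 2) := γ.toMonoidHom.eqLocus (MonoidHom.id _) with hS
  have key : ∀ e : Cfsg.SU 2 F 2 →* Cfsg.SU 3 F 2, γ (e (tor hF w)) = e (tor hF w) →
      γ (e (sw hF)) = e (sw hF) → e.range ≤ S := by
    rintro e a b _ ⟨y, rfl⟩
    show γ (e y) = e y
    have ht : ∀ c : Fˣ, γ (e (tor hF c)) = e (tor hF c) := fun c => by
      rcases eq_or_ne c 1 with rfl | hc
      · rw [tor_one, map_one, map_one]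
      rcases units_cases hF hw1 hc with rfl | rfl
      · exact a
      · rw [← tor_inv, map_inv, map_inv, a]
    obtain ⟨c, rfl | rfl⟩ := su2_cases hF y
    · exact ht c
    · rw [map_mul, map_mul, ht, b]
  have hN : N3 F ≤ S := sup_le (key left2 h1 h2) (key right2 h3 h4)
  have hall : S = ⊤ := gen hF hw S hN fun a ha h hh => by
    have hh4 := hM_pow_four hF hw ha hh
    have hcomm : ∀ b, b ∈ N3 F → h * b * h⁻¹ ∈ N3 F → Commute (h⁻¹ * γ h) b := by
      intro b hb hb'
      have e1 : γ (h * b * h⁻¹) = h * b * h⁻¹ := hN hb'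
      rw [map_mul, map_mul, map_inv, show γ b = b from hN hb, mul_inv_eq_iff_eq_mul] at e1
      show h⁻¹ * γ h * b = b * (h⁻¹ * γ h)
      rw [mul_assoc, e1]
      group
    have hu : Units.mk0 (w : F) (omega_ne hF hw).1 = w := Units.ext rfl
    have hc := fun (b : Cfsg.SU 3 F 2) (hb : b ∈ N3 F) hx =>
      hcomm b hb (hM_conj hF hw ha hh (x := b) hx)
    rw [hu] at hc
    obtain ⟨d, hd⟩ := scalar_of_comm hF hw1
      (hc _ (right_mem hF _) (Or.inr (Or.inr (Or.inl rfl))))
      (hc _ (left_mem hF _) (Or.inr (Or.inl rfl))) (hc _ (right_mem hF _) (Or.inr (Or.inr (Or.inr rfl))))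
    have e : γ h = h * zc hF d := by rw [← hd, mul_inv_cancel_left]
    have e4 := congrArg γ hh4
    rw [map_pow, e, map_one, ((zc_comm hF d h).symm).mul_pow, hh4, one_mul] at e4
    have hd4 : zc hF d ^ 4 = zc hF d := by
      rw [pow_succ, pow_succ, pow_succ, pow_one, zc_mul, zc_mul, zc_mul]
      congr 1
      refine Units.ext ?_
      push_cast
      linear_combination (d : F) * cube_one hF d.ne_zero
    rw [hd4] at e4
    show γ h = h
    rw [e, e4, mul_one]
  exact (hall.symm ▸ Subgroup.mem_top x : x ∈ S)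

variable {G : Type v} [Group G]

/-- **Gluing.** -/
theorem exists_glue_four (φ φ2 : S4 →* G) (hi : Function.Injective φ) (hi2 : Function.Injective φ2)
    (hV : (φ.comp (emb 1 (by omega : 1 + 3 ≤ 4))).range = (φ2.comp (emb 0 (by omega : 0 + 3 ≤ 4))).range)
    (hB : (φ.comp (emb 1 (by omega : 1 + 2 ≤ 4))).range = (φ2.comp (emb 0 (by omega : 0 + 2 ≤ 4))).range)
    (hC : (φ.comp (emb 2 (by omega : 2 + 2 ≤ 4))).range = (φ2.comp (emb 1 (by omega : 1 + 2 ≤ 4))).range) :
    ∃ φ2' : S4 →* G, Function.Injective φ2' ∧ φ2'.range = φ2.range ∧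
      (∀ (k : ℕ) (e : Fin k ↪ Fin 4), (φ2'.comp (blk e)).range = (φ2.comp (blk e)).range) ∧
      ∀ x : Cfsg.SU 3 F 2,
        φ2' (emb 0 (by omega : 0 + 3 ≤ 4) x) = φ (emb 1 (by omega : 1 + 3 ≤ 4) x) := by
  set p := φ.comp (emb 1 (by omega : 1 + 3 ≤ 4) : Cfsg.SU 3 F 2 →* S4) with hp
  set p2 := φ2.comp (emb 0 (by omega : 0 + 3 ≤ 4) : Cfsg.SU 3 F 2 →* S4) with hp2
  have pi : Function.Injective p := hi.comp (blk_injective _)
  have pi2 : Function.Injective p2 := hi2.comp (blk_injective _)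
  let β : MulAut (Cfsg.SU 3 F 2) := (MonoidHom.ofInjective pi).trans
    ((MulEquiv.subgroupCongr hV).trans (MonoidHom.ofInjective pi2).symm)
  have hβ : ∀ x, p2 (β x) = p x := fun x =>
    congrArg Subtype.val ((MonoidHom.ofInjective pi2).apply_symm_apply
      (MulEquiv.subgroupCongr hV (MonoidHom.ofInjective pi x)))
  have hl : ∀ x, ∃ y, β (left2 x) = left2 y := fun x => by
    have hm : p (left2 x) ∈ (φ2.comp (emb 0 (by omega : 0 + 2 ≤ 4) : Cfsg.SU 2 F 2 →* S4)).range := by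
      rw [← hB]; refine ⟨x, ?_⟩
      show φ _ = φ _
      rw [blk_blk]
      exact congrArg (fun e => φ (blk e x)) (Function.Embedding.ext fun i => by fin_cases i <;> rfl)
    obtain ⟨y, hy⟩ := hm
    refine ⟨y, pi2 ((hβ _).trans (hy.symm.trans ?_))⟩
    show φ2 _ = φ2 _
    rw [blk_blk]
    exact congrArg (fun e => φ2 (blk e y)) (Function.Embedding.ext fun i => by fin_cases i <;> rfl)
  have hr : ∀ x, ∃ y, β (right2 x) = right2 y := fun x => by
    have hm : p (right2 x) ∈ (φ2.comp (emb 1 (by omega : 1 + 2 ≤ 4) : Cfsg.SU 2 F 2 →* S4)).range := by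
      rw [← hC]; refine ⟨x, ?_⟩
      show φ _ = φ _
      rw [blk_blk]
      exact congrArg (fun e => φ (blk e x)) (Function.Embedding.ext fun i => by fin_cases i <;> rfl)
    obtain ⟨y, hy⟩ := hm
    refine ⟨y, pi2 ((hβ _).trans (hy.symm.trans ?_))⟩
    show φ2 _ = φ2 _
    rw [blk_blk]
    exact congrArg (fun e => φ2 (blk e y)) (Function.Embedding.ext fun i => by fin_cases i <;> rfl)
  obtain ⟨w₀, hw₀⟩ := exists_omega hF
  let w : Fˣ := Units.mk0 w₀ (omega_ne hF hw₀).1
  have hw : w ≠ 1 := fun e => (omega_ne hF hw₀).2 (congrArg Units.val e)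
  have hw3 : tor hF w ^ 3 = 1 := by
    rw [pow_succ, sq, tor_mul, tor_mul, ← sq, ← pow_succ,
      show w ^ 3 = 1 from Units.ext (by rw [Units.val_pow_eq_pow_val, cube_one hF w.ne_zero, Units.val_one]),
      tor_one]
  -- the images of the torus and swap elements
  have htor : ∀ (e : Cfsg.SU 2 F 2 →* Cfsg.SU 3 F 2), Function.Injective e → (∀ x, ∃ y, β (e x) = e y) →
      ∃ a : Fˣ, a ≠ 1 ∧ β (e (tor hF w)) = e (tor hF a) := by
    intro e he hh
    obtain ⟨y, hy⟩ := hh (tor hF w)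
    obtain ⟨a, ha, rfl⟩ := eq_tor_of_cube hF (x := y)
      (he (by rw [map_pow, ← hy, ← map_pow, ← map_pow, hw3, map_one, map_one]))
      (fun e1 => hw (tor_eq_one hF (he (β.injective (by rw [hy, e1, map_one, map_one])))))
    exact ⟨a, ha, hy⟩
  have hswap : ∀ (e : Cfsg.SU 2 F 2 →* Cfsg.SU 3 F 2), Function.Injective e → (∀ x, ∃ y, β (e x) = e y) →
      ∃ a : Fˣ, β (e (sw hF)) = e (tor hF a * sw hF) := by
    intro e he hh
    obtain ⟨y, hy⟩ := hh (sw hF)
    obtain ⟨a, rfl | rfl⟩ := su2_cases hF y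
    · exfalso
      have hsq : tor hF a * tor hF a = 1 :=
        he (by rw [map_mul, ← hy, ← map_mul, ← map_mul, sw_sq, map_one, map_one])
      have ha : a = 1 := by
        by_contra ha
        rw [tor_mul] at hsq
        have := tor_eq_one hF hsq
        exact sq_ne_one hF (fun e => ha (Units.ext e)) (by rw [sq]; exact congrArg Units.val this)
      exact sw_ne_one hF (he (β.injective (by rw [hy, ha, tor_one, map_one, map_one])))
    · exact ⟨a, hy⟩
  obtain ⟨a, ha, hβl⟩ := htor left2 (blk_injective _) hl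
  obtain ⟨b, hb, hβr⟩ := htor right2 (blk_injective _) hr
  obtain ⟨x, hβls⟩ := hswap left2 (blk_injective _) hl
  obtain ⟨y, hβrs⟩ := hswap right2 (blk_injective _) hr
  have hab : b = a := by
    have hz : β (zc hF w) = left2 (tor hF a) * right2 (tor hF b⁻¹) := by
      rw [zc, map_mul, hβl, ← tor_inv, ← tor_inv, map_inv, map_inv, map_inv, hβr]
    have hc : ∀ g, Commute (β (zc hF w)) g := fun g => by
      obtain ⟨g, rfl⟩ := β.surjective g
      exact (zc_comm hF w g).map β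
    obtain ⟨d, hd⟩ := scalar_of_comm hF hw (hc _) (hc _) (hc _)
    rw [hz] at hd
    have e0 := congrArg (fun g => act g (Pi.single (0 : Fin 3) (1 : F))) hd
    have e2 := congrArg (fun g => act g (Pi.single (2 : Fin 3) (1 : F))) hd
    simp only [act_zc, act_mul, act_right hF, act_left hF, mat_tor] at e0 e2
    have e0' := congrFun e0 0
    have e2' := congrFun e2 2
    simp at e0' e2'
    exact Units.ext (e2'.trans e0'.symm)
  -- the semilinear map agreeing with it
  obtain ⟨τ, hτ⟩ : ∃ τ : F ≃+* F, τ (w : F) = a := by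
    rcases units_cases hF hw ha with h | h
    · exact ⟨RingEquiv.refl F, by rw [h]; rfl⟩
    · exact ⟨qConj hF, by rw [h, qConj_inv hF, Units.val_inv_eq_inv_val]⟩
  let d4 : Fin 4 → Fˣ := ![x, 1, y⁻¹, 1]
  obtain ⟨α4, hα4, hα4m⟩ := exists_tw hF d4 τ
  obtain ⟨α3, hα3, hα3m⟩ := exists_tw hF (fun i => d4 (iv 0 (by omega : 0 + 3 ≤ 4) i)) τ
  have hα3m' : ∀ A i j, mat (α3 A) i j = (![(x : F), 1, (y : F)⁻¹] i) * τ (mat A i j) *
      (![(x : F), 1, (y : F)⁻¹] j)⁻¹ := fun A i j => by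
    rw [hα3m]
    have : ∀ i, ((d4 (iv 0 (by omega : 0 + 3 ≤ 4) i) : Fˣ) : F) = ![(x : F), 1, (y : F)⁻¹] i := fun i => by
      fin_cases i
      · rfl
      · rfl
      · exact Units.val_inv_eq_inv_val y
    rw [this, this]
  have a1 : α3 (left2 (tor hF w)) = left2 (tor hF a) := mat_ext (Matrix.ext fun i j => by
    rw [hα3m', mat_left2, mat_left2, mat_tor, mat_tor]
    fin_cases i <;> fin_cases j <;> simp [hτ] <;> field_simp)
  have a2 : α3 (left2 (sw hF)) = left2 (tor hF x * sw hF) := mat_ext (Matrix.ext fun i j => by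
    rw [hα3m', mat_left2, mat_left2, mat_mul, mat_tor, mat_sw]
    fin_cases i <;> fin_cases j <;> simp [Matrix.mul_apply, Fin.sum_univ_two])
  have a3 : α3 (right2 (tor hF w)) = right2 (tor hF b) := mat_ext (Matrix.ext fun i j => by
    rw [hα3m', mat_right2, mat_right2, mat_tor, mat_tor, hab]
    fin_cases i <;> fin_cases j <;> simp [hτ] <;> field_simp)
  have a4 : α3 (right2 (sw hF)) = right2 (tor hF y * sw hF) := mat_ext (Matrix.ext fun i j => by
    rw [hα3m', mat_right2, mat_right2, mat_mul, mat_tor, mat_sw]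
    fin_cases i <;> fin_cases j <;> simp [Matrix.mul_apply, Fin.sum_univ_two])
  let γ : MulAut (Cfsg.SU 3 F 2) := β.trans (MulEquiv.ofBijective α3 hα3).symm
  have hγ : ∀ g, α3 (γ g) = β g := fun g => (MulEquiv.ofBijective α3 hα3).apply_symm_apply (β g)
  have hid := eq_id_of_fix hF (w := w) hw₀ γ (hα3.1 (by rw [hγ, hβl, a1])) (hα3.1 (by rw [hγ, hβls, a2]))
    (hα3.1 (by rw [hγ, hβr, a3])) (hα3.1 (by rw [hγ, hβrs, a4]))
  refine ⟨φ2.comp α4, hi2.comp hα4.1, ?_, fun k e => tw_range hF hα4m φ2 e, fun g => ?_⟩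
  · rw [MonoidHom.range_comp, MonoidHom.range_eq_top.2 hα4.2, ← MonoidHom.range_eq_map]
  · show φ2 (α4 (emb 0 _ g)) = p g
    rw [tw_blk hF _ hα4m hα3m, ← hβ, ← hγ, hid]
    rfl

end CfsgLib.Recog.Phan.Two
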